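import Mathlib
import Cfsg.Agent.Lib.Basic
import Cfsg.Agent.Lib.Coprime
import Cfsg.Agent.Lib.PComplement
import Cfsg.Agent.Lib.CyclicSylowAbelian.Basic
import Cfsg.Agent.Lib.CharTheory.Burnside

/-! Groups in which a large prime `p` divides the order of every mixed proper subgroup. -/

set_option autoImplicit false

namespace CfsgLib.MixedDivisor

open Cfsg Subgroup

universe u

variable {G : Type u} [Group G] [Finite G] {p q r : ℕ}

/-- `p` divides the order of every mixed proper subgroup. -/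
def Mix (p q : ℕ) (G : Type u) [Group G] : Prop :=
  ∀ H : Subgroup G, H ≠ ⊤ → ¬ IsPGroup q H → q ∣ Nat.card H → p ∣ Nat.card H

/-- Only `p` and `q` divide the order. -/
def Two (p q : ℕ) (G : Type u) [Group G] : Prop :=
  ∀ r : ℕ, r.Prime → r ∣ Nat.card G → r = p ∨ r = q

/-- The size condition. -/
def Large (p q : ℕ) (G : Type u) [Group G] : Prop :=
  q ^ (Nat.card G).factorization q - 1 < p ∨
    (p = q ^ (Nat.card G).factorization q - 1 ∧ ∀ P : Sylow p G, IsMulCommutative P)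

theorem not_isPGroup_of_dvd {H : Subgroup G} (hr : r.Prime) (hrq : r ≠ q) (hq : q.Prime)
    (hd : r ∣ Nat.card H) : ¬ IsPGroup q H := by
  intro h
  haveI := Fact.mk hq
  obtain ⟨k, hk⟩ := IsPGroup.iff_card.mp h
  exact hrq ((Nat.prime_dvd_prime_iff_eq hr hq).mp (hr.dvd_of_dvd_pow (hk ▸ hd)))

theorem card_sup_dvd_of_le_normalizer {A B : Subgroup G} (h : B ≤ normalizer (A : Set G)) :
    Nat.card ↥(B ⊔ A) ∣ Nat.card B * Nat.card A := by
  set N := normalizer (A : Set G)
  haveI : (A.subgroupOf N).Normal := normal_in_normalizer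
  have h1 := CfsgLib.card_sup_dvd_mul (B.subgroupOf N) (A.subgroupOf N)
  rw [← subgroupOf_sup h le_normalizer, Nat.card_congr (subgroupOfEquivOfLe (sup_le h le_normalizer)).toEquiv,
    Nat.card_congr (subgroupOfEquivOfLe h).toEquiv, Nat.card_congr (subgroupOfEquivOfLe (le_normalizer : A ≤ N)).toEquiv] at h1
  exact h1

/-- There is no `{q, r}`-subgroup normalised product. -/
theorem mixed_false (hp : p.Prime) (hq : q.Prime) (hr : r.Prime) (hpq : p ≠ q) (hrp : r ≠ p) (hrq : r ≠ q)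
    (hmix : Mix p q G) (hpG : p ∣ Nat.card G) {A B : Subgroup G} {i j : ℕ}
    (hB : B ≤ normalizer (A : Set G)) (hdvd : Nat.card B * Nat.card A ∣ q ^ i * r ^ j)
    (hqd : q ∣ Nat.card A ∨ q ∣ Nat.card B) (hrd : r ∣ Nat.card A ∨ r ∣ Nat.card B) : False := by
  set H := B ⊔ A
  have h1 := (card_sup_dvd_of_le_normalizer hB).trans hdvd
  have hp' : ¬ p ∣ Nat.card H := fun h => by
    rcases hp.dvd_mul.mp (h.trans h1) with h2 | h2
    · exact hpq ((Nat.prime_dvd_prime_iff_eq hp hq).mp (hp.dvd_of_dvd_pow h2))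
    · exact hrp.symm ((Nat.prime_dvd_prime_iff_eq hp hr).mp (hp.dvd_of_dvd_pow h2))
  have hle : ∀ {s : ℕ}, (s ∣ Nat.card A ∨ s ∣ Nat.card B) → s ∣ Nat.card H := fun hs =>
    hs.elim (fun h => h.trans (card_dvd_of_le le_sup_right)) fun h => h.trans (card_dvd_of_le le_sup_left)
  refine hp' (hmix H (fun h => hp' ?_) (not_isPGroup_of_dvd hr hrq hq (hle hrd)) (hle hqd))
  rw [h, card_top]
  exact hpG

theorem eq_p_of_dvd_orderOf (hp : p.Prime) (hq : q.Prime) (hpq : p ≠ q) (hmix : Mix p q G)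
    (hpG : p ∣ Nat.card G) {Q₀ : Subgroup G} (hQ : IsPGroup q Q₀) (hQ1 : Q₀ ≠ ⊥) {g : G}
    (hg : g ∈ normalizer (Q₀ : Set G)) (hr : r.Prime) (hd : r ∣ orderOf g) : r = p ∨ r = q := by
  by_contra hcon
  push Not at hcon
  haveI := Fact.mk hq
  obtain ⟨i, hi⟩ := IsPGroup.iff_card.mp hQ
  have hy : orderOf (g ^ (orderOf g / r)) = r := orderOf_pow_orderOf_div (orderOf_pos g).ne' hd
  refine mixed_false (G := G) (r := r) (i := i) (j := 1) hp hq hr hpq hcon.1 hcon.2 hmix hpG
    (A := Q₀) (B := zpowers (g ^ (orderOf g / r))) (zpowers_le.mpr (pow_mem hg _)) ?_ (Or.inl ?_) (Or.inr ?_)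
  · rw [Nat.card_zpowers, hy, hi, pow_one, mul_comm]
  · rcases i with _ | i
    · exact absurd (card_eq_one.mp (by rw [hi, pow_zero])) hQ1
    · rw [hi]; exact dvd_pow_self q (Nat.succ_ne_zero i)
  · rw [Nat.card_zpowers, hy]

theorem normalizer_two (hp : p.Prime) (hq : q.Prime) (hpq : p ≠ q) (hmix : Mix p q G)
    (hpG : p ∣ Nat.card G) {Q₀ : Subgroup G} (hQ : IsPGroup q Q₀) (hQ1 : Q₀ ≠ ⊥) :
    Two p q ↥(normalizer (Q₀ : Set G)) := by
  intro r hr hd
  haveI := Fact.mk hr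
  obtain ⟨g, hg⟩ := exists_prime_orderOf_dvd_card' r hd
  exact eq_p_of_dvd_orderOf hp hq hpq hmix hpG hQ hQ1 g.2 hr (by rw [Subgroup.orderOf_coe, hg])

/-- An element of order prime to `q` normalizing a `q`-subgroup is a `p`-element. -/
theorem isPGroup_of_coprime (hp : p.Prime) (hq : q.Prime) (hpq : p ≠ q) (hmix : Mix p q G)
    (hpG : p ∣ Nat.card G) {Q₀ : Subgroup G} (hQ : IsPGroup q Q₀) (hQ1 : Q₀ ≠ ⊥) {g : G}
    (hg : g ∈ normalizer (Q₀ : Set G)) (hc : (orderOf g).Coprime q) : IsPGroup p (zpowers g) := by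
  haveI := Fact.mk hp
  refine IsPGroup.of_card (n := (orderOf g).primeFactorsList.length) ?_
  rw [Nat.card_zpowers]
  refine Nat.eq_prime_pow_of_unique_prime_dvd (orderOf_pos g).ne' fun {d} hd hdd => ?_
  rcases eq_p_of_dvd_orderOf hp hq hpq hmix hpG hQ hQ1 hg hd hdd with h | h
  · exact h
  · exact absurd (h ▸ Nat.dvd_gcd hdd dvd_rfl : q ∣ Nat.gcd (orderOf g) q) (by rw [hc]; exact hq.not_dvd_one)

theorem conj_iterate (g : G) : ∀ (i : ℕ) (u : G), (fun t => g * t * g⁻¹)^[i] u = g ^ i * u * (g ^ i)⁻¹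
  | 0, u => by simp
  | i + 1, u => by
    rw [Function.iterate_succ_apply', conj_iterate g i u, pow_succ']
    group

theorem pow_conj_mem {A : Subgroup G} {g u : G} (hg : g ∈ normalizer (A : Set G)) (hu : u ∈ A) (i : ℕ) :
    g ^ i * u * (g ^ i)⁻¹ ∈ A :=
  (mem_normalizer_iff.mp (pow_mem hg i) u).mp hu

/-- A `p`-element moving an element of a subgroup gives an orbit of at least `p` nontrivial elements. -/
theorem orbit_bound (hp : p.Prime) {A : Subgroup G} {g u : G} (hgp : IsPGroup p (zpowers g))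
    (hg : g ∈ normalizer (A : Set G)) (hu : u ∈ A) (hne : g * u * g⁻¹ ≠ u) :
    p + 1 ≤ Nat.card A ∧ (Nat.card A = p + 1 → ∀ w ∈ A, w ≠ 1 → ∃ i : ℕ, g ^ i * u * (g ^ i)⁻¹ = w) := by
  classical
  haveI := Fact.mk hp
  haveI := Fintype.ofFinite G
  obtain ⟨k, hk⟩ := IsPGroup.iff_card.mp hgp
  rw [Nat.card_zpowers] at hk
  set f : G → G := fun t => g * t * g⁻¹
  have hper : Function.IsPeriodicPt f (p ^ k) u := by
    show f^[p ^ k] u = u
    rw [conj_iterate, ← hk, pow_orderOf_eq_one]; group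
  obtain ⟨j, hjk, hj⟩ := (Nat.dvd_prime_pow hp).mp hper.minimalPeriod_dvd
  have hj0 : j ≠ 0 := fun h => hne (Function.minimalPeriod_eq_one_iff_isFixedPt.mp (by rw [hj, h, pow_zero] : Function.minimalPeriod f u = 1))
  have hpm : p ≤ Function.minimalPeriod f u := by rw [hj]; exact Nat.le_self_pow hj0 p
  have hu1 : u ≠ 1 := fun h => hne (by rw [h]; group)
  set S : Finset G := (Finset.range p).image fun i => g ^ i * u * (g ^ i)⁻¹
  have hS : S.card = p := by
    rw [Finset.card_image_of_injOn, Finset.card_range]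
    intro a ha b hb hab
    simp only [Finset.coe_range, Set.mem_Iio] at ha hb
    refine Function.iterate_injOn_Iio_minimalPeriod (f := f) (x := u) (lt_of_lt_of_le ha hpm) (lt_of_lt_of_le hb hpm) ?_
    simp only [f, conj_iterate]
    exact hab
  have h1S : (1 : G) ∉ S := by
    intro h
    obtain ⟨i, -, hi⟩ := Finset.mem_image.mp h
    exact hu1 (conj_eq_one_iff.mp hi)
  have hsub : insert 1 S ⊆ (A : Set G).toFinset := by
    intro y hy
    rw [Set.mem_toFinset]
    rcases Finset.mem_insert.mp hy with rfl | hy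
    · exact one_mem A
    · obtain ⟨i, -, rfl⟩ := Finset.mem_image.mp hy
      exact pow_conj_mem hg hu i
  have hcardA : (A : Set G).toFinset.card = Nat.card A := by
    rw [Set.toFinset_card, ← Nat.card_eq_fintype_card]; rfl
  have hc : (insert 1 S).card = p + 1 := by rw [Finset.card_insert_of_notMem h1S, hS]
  refine ⟨hc ▸ hcardA ▸ Finset.card_le_card hsub, fun h w hw hw1 => ?_⟩
  have heq := Finset.eq_of_subset_of_card_le hsub (by rw [hcardA, h, hc])
  have : w ∈ insert 1 S := heq ▸ Set.mem_toFinset.mpr hw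
  obtain ⟨i, -, hi⟩ := Finset.mem_image.mp ((Finset.mem_insert.mp this).resolve_left hw1)
  exact ⟨i, hi⟩

/-- If every element of order prime to `q` normalizing a `q`-subgroup centralises it, then we are done. -/
theorem two_of_centralizing (hp : p.Prime) (hq : q.Prime) (hpq : p ≠ q) (hmix : Mix p q G)
    (hpG : p ∣ Nat.card G) (hqG : q ∣ Nat.card G)
    (h : ∀ Q₀ : Subgroup G, IsPGroup q Q₀ → ∀ g ∈ normalizer (Q₀ : Set G), IsPGroup p (zpowers g) →
      ∀ u ∈ Q₀, g * u * g⁻¹ = u) : Two p q G := by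
  haveI := Fact.mk hq
  obtain ⟨Q, K, hK, hKQ⟩ := CfsgLib.hasNormalPComplement_of_frobeniusCond (p := q) (G := G) (by
    intro Q₀ hQ₀ g hg hgq
    rw [mem_centralizer_iff]
    intro u hu
    rcases eq_or_ne Q₀ ⊥ with rfl | hne
    · rw [mem_bot.mp hu, one_mul, mul_one]
    · exact (mul_inv_eq_iff_eq_mul.mp (h Q₀ hQ₀ g hg (isPGroup_of_coprime hp hq hpq hmix hpG hQ₀ hne hg hgq) u hu)).symm)
  intro r hr hd
  by_contra hcon
  push Not at hcon
  haveI := Fact.mk hr
  obtain ⟨i, hi⟩ := IsPGroup.iff_card.mp Q.2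
  have hi0 : i ≠ 0 := fun h0 => by
    have h2 := Q.card_eq_multiplicity
    rw [hi, h0] at h2
    have h3 := hq.factorization_pos_of_dvd Nat.card_pos.ne' hqG
    have h4 := Nat.pow_right_injective hq.two_le h2
    omega
  have hKQc := hKQ.card_mul
  have hcop : (Nat.card (Q : Subgroup G)).Coprime (Nat.card K) := by
    rw [← hKQ.index_eq_card, hi]
    refine Nat.Coprime.pow_left i ((hq.coprime_iff_not_dvd).mpr ?_)
    exact Q.not_dvd_index
  obtain ⟨R, hR⟩ := CfsgLib.coprime_exists_invariant_sylow (A := (Q : Subgroup G)) (K := K)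
    (by rw [normalizer_eq_top (H := K)]; exact le_top) hcop (Or.inl (by haveI := Q.2.isNilpotent; infer_instance)) r
  obtain ⟨j, hj⟩ := IsPGroup.iff_card.mp (R.2.map K.subtype)
  have hrK : r ∣ Nat.card K := by
    rw [← hKQc] at hd
    exact (hr.dvd_mul.mp hd).resolve_right fun h' =>
      hcon.2 ((Nat.prime_dvd_prime_iff_eq hr hq).mp (hr.dvd_of_dvd_pow (hi ▸ h')))
  refine mixed_false (G := G) (r := r) (i := i) (j := j) hp hq hr hpq hcon.1 hcon.2 hmix hpG hR
    (by rw [hi, hj]) (Or.inr (hi ▸ dvd_pow_self q hi0)) (Or.inl ?_)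
  rw [Subgroup.card_map_of_injective K.subtype_injective, R.card_eq_multiplicity]
  exact dvd_pow_self r (hr.factorization_pos_of_dvd Nat.card_pos.ne' hrK).ne'

end CfsgLib.MixedDivisor
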