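import Mathlib
import Cfsg.Agent.Lib.MixedDivisor.Basic
import Cfsg.Agent.Lib.PSolvable
import Cfsg.Agent.Lib.CoprimeGen

/-! The Mersenne case: the Sylow `2`-subgroup and the centralisers of its involutions. -/

set_option autoImplicit false

namespace CfsgLib.MixedDivisor

open Cfsg Subgroup

universe u

variable {G : Type u} [Group G] [Finite G] {p : ℕ}

/-- A counterexample in the Mersenne case, minimal. -/
structure Cex (p : ℕ) (G : Type u) [Group G] : Prop where
  prime : p.Prime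
  ne_two : p ≠ 2
  mix : Mix p 2 G
  dvd : p ∣ Nat.card G
  dvd_two : 2 ∣ Nat.card G
  size : p + 1 = 2 ^ (Nat.card G).factorization 2
  ab : ∀ P : Sylow p G, IsMulCommutative P
  bad : ¬ Two p 2 G
  small : ∀ H : Subgroup G, H ≠ ⊤ → 2 ∣ Nat.card H → Two p 2 ↥H
  noP : ∀ K : Subgroup G, K.Normal → IsPGroup p K → K = ⊥

/-- A `p`-element normalizing `Q` and transitive on its nonidentity elements. -/
def Mover (p : ℕ) (Q : Subgroup G) (g : G) : Prop :=
  g ∈ normalizer (Q : Set G) ∧ IsPGroup p (zpowers g) ∧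
    ∀ u ∈ Q, u ≠ 1 → ∀ w ∈ Q, w ≠ 1 → ∃ i : ℕ, g ^ i * u * (g ^ i)⁻¹ = w

theorem isPGroup_zpowers_of_pow {q : ℕ} (hq : q.Prime) {a : G} (h : ∃ k, a ^ q ^ k = 1) :
    IsPGroup q (zpowers a) := by
  obtain ⟨k, hk⟩ := h
  obtain ⟨j, -, hj⟩ := (Nat.dvd_prime_pow hq).mp (orderOf_dvd_of_pow_eq_one hk)
  exact IsPGroup.of_card (n := j) (by rw [Nat.card_zpowers, hj])

theorem eq_one_of_two_groups {q r : ℕ} (hq : q.Prime) (hr : r.Prime) (hne : q ≠ r) {A B : Subgroup G}
    (hA : IsPGroup q A) (hB : IsPGroup r B) {x : G} (ha : x ∈ A) (hb : x ∈ B) : x = 1 := by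
  haveI := Fact.mk hq
  haveI := Fact.mk hr
  exact Subgroup.mem_bot.mp ((IsPGroup.disjoint_of_ne q r hne A B hA hB).le_bot ⟨ha, hb⟩)

/-- Splitting an element of a `{p, 2}`-subgroup. -/
theorem split_two (hp : p.Prime) {H : Subgroup G} (hH : Two p 2 ↥H) {g : G} (hg : g ∈ H) :
    ∃ a b : G, a * b = g ∧ a ∈ zpowers g ∧ b ∈ zpowers g ∧ IsPGroup p (zpowers a) ∧ IsPGroup 2 (zpowers b) := by
  haveI := Fact.mk hp
  obtain ⟨a, b, hab, ha, hb, hap, hbp⟩ := CfsgLib.CycSyl.split (p := p) g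
  refine ⟨a, b, hab, ha, hb, isPGroup_zpowers_of_pow hp hap, ?_⟩
  haveI := Fact.mk Nat.prime_two
  refine IsPGroup.of_card (n := (orderOf b).primeFactorsList.length) ?_
  rw [Nat.card_zpowers]
  refine Nat.eq_prime_pow_of_unique_prime_dvd (orderOf_pos b).ne' fun {d} hd hdd => ?_
  rcases hH d hd (hdd.trans (Subgroup.orderOf_dvd_natCard H (zpowers_le.mpr hg hb))) with h | h
  · exact absurd (h ▸ Nat.dvd_gcd hdd dvd_rfl : p ∣ Nat.gcd (orderOf b) p) (by rw [hbp]; exact hp.not_dvd_one)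
  · exact h

namespace Cex

variable (C : Cex p G)
include C

theorem proper_of_two {H : Subgroup G} (h : Two p 2 ↥H) : H ≠ ⊤ := by
  rintro rfl
  exact C.bad fun r hr hd => h r hr (by rw [card_top]; exact hd)

theorem normalizer_two' {A : Subgroup G} (hA : IsPGroup 2 A) (hA1 : A ≠ ⊥) :
    Two p 2 ↥(normalizer (A : Set G)) :=
  normalizer_two C.prime Nat.prime_two C.ne_two C.mix C.dvd hA hA1

theorem normalizer_p_ne_top {A : Subgroup G} (hA : IsPGroup p A) (hA1 : A ≠ ⊥) :
    normalizer (A : Set G) ≠ ⊤ := fun h => hA1 (C.noP A (normalizer_eq_top_iff.mp h) hA)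

theorem centralizer_p_ne_top {d : G} (hd : IsPGroup p (zpowers d)) (hd1 : d ≠ 1) :
    centralizer ({d} : Set G) ≠ ⊤ := by
  intro h
  refine hd1 (zpowers_eq_bot.mp (C.noP _ ⟨fun x hx g => ?_⟩ hd))
  obtain ⟨i, rfl⟩ := hx
  have h1 : Commute g d := (mem_centralizer_iff.mp (h ▸ mem_top g : g ∈ centralizer ({d} : Set G)) d rfl).symm
  simp only
  rw [(h1.zpow_right i).eq, mul_inv_cancel_right]
  exact zpow_mem (mem_zpowers d) i

theorem card_sylow (Q : Sylow 2 G) : Nat.card (Q : Subgroup G) = p + 1 := by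
  haveI := Fact.mk Nat.prime_two
  rw [Q.card_eq_multiplicity, C.size]

theorem sylow_facts (Q : Sylow 2 G) :
    (∀ u ∈ (Q : Subgroup G), u * u = 1) ∧ ∃ g, Mover p (Q : Subgroup G) g := by
  haveI := Fact.mk Nat.prime_two
  haveI := Fact.mk C.prime
  obtain ⟨A, hA, g, hg, hgp, u, hu, hne⟩ : ∃ A : Subgroup G, IsPGroup 2 A ∧ ∃ g ∈ normalizer (A : Set G),
      IsPGroup p (zpowers g) ∧ ∃ u ∈ A, g * u * g⁻¹ ≠ u := by
    by_contra h
    push Not at h
    exact C.bad (two_of_centralizing C.prime Nat.prime_two C.ne_two C.mix C.dvd C.dvd_two h)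
  obtain ⟨hle, htr⟩ := orbit_bound C.prime hgp hg hu hne
  obtain ⟨Q₁, hQ₁⟩ := hA.exists_le_sylow
  have hAc : Nat.card A = p + 1 := le_antisymm (C.card_sylow Q₁ ▸ card_le_of_le hQ₁) hle
  have hAQ : A = (Q₁ : Subgroup G) := eq_of_le_of_card_ge hQ₁ (by rw [hAc, C.card_sylow])
  have htr' := htr hAc
  have hmove : ∀ v ∈ A, v ≠ 1 → ∀ w ∈ A, w ≠ 1 → ∃ i : ℕ, g ^ i * v * (g ^ i)⁻¹ = w := by
    intro v hv hv1 w hw hw1
    obtain ⟨a, ha⟩ := htr' v hv hv1
    obtain ⟨b, hb⟩ := htr' w hw hw1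
    refine ⟨b + a * (orderOf g - 1), ?_⟩
    have h1 : g ^ (a * (orderOf g - 1)) = (g ^ a)⁻¹ := by
      refine eq_inv_of_mul_eq_one_left ?_
      rw [← pow_add, ← Nat.mul_succ, Nat.succ_eq_add_one, Nat.sub_add_cancel (orderOf_pos g), mul_comm,
        pow_mul, pow_orderOf_eq_one, one_pow]
    rw [← ha, ← hb, pow_add, h1]
    group
  have hsq : ∀ v ∈ A, v * v = 1 := by
    intro v hv
    rcases eq_or_ne v 1 with rfl | hv1
    · exact one_mul 1
    obtain ⟨z, hz⟩ := exists_prime_orderOf_dvd_card' (G := A) 2 (by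
      rw [hAc, C.size]
      exact dvd_pow_self 2 (Nat.prime_two.factorization_pos_of_dvd Nat.card_pos.ne' C.dvd_two).ne')
    have hz1 : (z : G) ≠ 1 := fun h => by
      rw [← Subgroup.orderOf_coe, h, orderOf_one] at hz; omega
    obtain ⟨i, hi⟩ := hmove z z.2 hz1 v hv hv1
    have hz2 : (z : G) * z = 1 := by
      rw [← pow_two, ← hz, ← Subgroup.orderOf_coe, pow_orderOf_eq_one]
    rw [← hi]
    calc g ^ i * z * (g ^ i)⁻¹ * (g ^ i * z * (g ^ i)⁻¹) = g ^ i * ((z : G) * z) * (g ^ i)⁻¹ := by group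
      _ = 1 := by rw [hz2]; group
  obtain ⟨c, rfl⟩ := MulAction.exists_smul_eq G Q₁ Q
  subst hAQ
  have hmem : ∀ y, y ∈ ((c • Q₁ : Sylow 2 G) : Subgroup G) ↔ c⁻¹ * y * c ∈ (Q₁ : Subgroup G) := by
    intro y
    rw [Sylow.coe_subgroup_smul, Subgroup.mem_pointwise_smul_iff_inv_smul_mem]
    simp [MulAut.smul_def, MulAut.conj_inv_apply, MulAut.inv_def]
  have hpow : ∀ i : ℕ, (c * g * c⁻¹) ^ i = c * g ^ i * c⁻¹ := fun i => conj_pow
  refine ⟨fun v hv => ?_, c * g * c⁻¹, ?_, ?_, fun v hv hv1 w hw hw1 => ?_⟩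
  · have h1 := hsq _ ((hmem v).mp hv)
    calc v * v = c * ((c⁻¹ * v * c) * (c⁻¹ * v * c)) * c⁻¹ := by group
      _ = 1 := by rw [h1]; group
  · rw [mem_normalizer_iff]
    intro y
    rw [hmem, hmem, show c⁻¹ * (c * g * c⁻¹ * y * (c * g * c⁻¹)⁻¹) * c = g * (c⁻¹ * y * c) * g⁻¹ by group]
    exact mem_normalizer_iff.mp hg _
  · obtain ⟨k, hk⟩ := IsPGroup.iff_card.mp hgp
    refine IsPGroup.of_card (n := k) ?_
    rw [Nat.card_zpowers] at hk ⊢
    rw [← hk, ← MulEquiv.orderOf_eq (MulAut.conj c) g]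
    rfl
  · have e : ∀ y, y ≠ 1 → c⁻¹ * y * c ≠ 1 := fun y hy h => hy (by
      calc y = c * (c⁻¹ * y * c) * c⁻¹ := by group
        _ = 1 := by rw [h]; group)
    obtain ⟨i, hi⟩ := hmove _ ((hmem v).mp hv) (e v hv1) _ ((hmem w).mp hw) (e w hw1)
    refine ⟨i, ?_⟩
    rw [hpow]
    calc c * g ^ i * c⁻¹ * v * (c * g ^ i * c⁻¹)⁻¹ = c * (g ^ i * (c⁻¹ * v * c) * (g ^ i)⁻¹) * c⁻¹ := by group
      _ = w := by rw [hi]; group

theorem comm (Q : Sylow 2 G) {u w : G} (hu : u ∈ (Q : Subgroup G)) (hw : w ∈ (Q : Subgroup G)) : u * w = w * u := by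
  have h := (C.sylow_facts Q).1
  calc u * w = (u * w)⁻¹ := eq_inv_of_mul_eq_one_left (h _ (mul_mem hu hw))
    _ = w * u := by rw [mul_inv_rev, inv_eq_of_mul_eq_one_left (h w hw), inv_eq_of_mul_eq_one_left (h u hu)]

theorem mover_of_moves (Q : Sylow 2 G) {g u : G} (hg : g ∈ normalizer ((Q : Subgroup G) : Set G))
    (hgp : IsPGroup p (zpowers g)) (hu : u ∈ (Q : Subgroup G)) (hne : g * u * g⁻¹ ≠ u) :
    Mover p (Q : Subgroup G) g := by
  refine ⟨hg, hgp, fun v hv hv1 w hw hw1 => ?_⟩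
  have htr' := (orbit_bound C.prime hgp hg hu hne).2 (C.card_sylow Q)
  obtain ⟨a, ha⟩ := htr' v hv hv1
  obtain ⟨b, hb⟩ := htr' w hw hw1
  refine ⟨b + a * (orderOf g - 1), ?_⟩
  have h1 : g ^ (a * (orderOf g - 1)) = (g ^ a)⁻¹ := by
    refine eq_inv_of_mul_eq_one_left ?_
    rw [← pow_add, ← Nat.mul_succ, Nat.succ_eq_add_one, Nat.sub_add_cancel (orderOf_pos g), mul_comm,
      pow_mul, pow_orderOf_eq_one, one_pow]
  rw [← ha, ← hb, pow_add, h1]
  group

theorem mem_of_normalizer (Q : Sylow 2 G) {b : G} (hb : b ∈ normalizer ((Q : Subgroup G) : Set G))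
    (h2 : IsPGroup 2 (zpowers b)) : b ∈ (Q : Subgroup G) := by
  have h := Q.3 (h2.to_sup_of_normal_right' Q.2 (zpowers_le.mpr hb)) le_sup_right
  exact h ▸ mem_sup_left (mem_zpowers b)

theorem exists_other (Q : Sylow 2 G) (t : G) : ∃ w ∈ (Q : Subgroup G), w ≠ 1 ∧ w ≠ t := by
  classical
  haveI := Fintype.ofFinite G
  by_contra h
  push Not at h
  have hsub : ((Q : Subgroup G) : Set G).toFinset ⊆ {1, t} := by
    intro w hw
    rw [Set.mem_toFinset] at hw
    rcases eq_or_ne w 1 with rfl | hw1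
    · simp
    · simp [h w hw hw1]
  have h1 := (Finset.card_le_card hsub).trans Finset.card_le_two
  rw [Set.toFinset_card, ← Nat.card_eq_fintype_card] at h1
  have h2 : Nat.card (Q : Subgroup G) ≤ 2 := h1
  rw [C.card_sylow] at h2
  have := C.prime.two_le
  omega

theorem fix_of_fix (Q : Sylow 2 G) {g t : G} (hg : g ∈ normalizer ((Q : Subgroup G) : Set G))
    (hgp : IsPGroup p (zpowers g)) (ht : t ∈ (Q : Subgroup G)) (ht1 : t ≠ 1) (hfix : g * t = t * g) :
    g ∈ centralizer ((Q : Subgroup G) : Set G) := by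
  rw [mem_centralizer_iff]
  intro u hu
  by_contra hne
  have hM := C.mover_of_moves Q hg hgp hu (fun h => hne (mul_inv_eq_iff_eq_mul.mp h).symm)
  obtain ⟨w, hw, hw1, hwt⟩ := C.exists_other Q t
  obtain ⟨i, hi⟩ := hM.2.2 t ht ht1 w hw hw1
  refine hwt ?_
  rw [← hi, ((show Commute g t from hfix).pow_left i).eq, mul_inv_cancel_right]

theorem centralizer_two_elem (Q : Sylow 2 G) {t : G} (ht : t ∈ (Q : Subgroup G)) (ht1 : t ≠ 1) :
    Two p 2 ↥(centralizer ({t} : Set G)) := by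
  have h1 := C.normalizer_two' (Q.2.to_le (zpowers_le.mpr ht)) (fun h => ht1 (zpowers_eq_bot.mp h))
  have hle : centralizer ({t} : Set G) ≤ normalizer (zpowers t : Set G) := fun g hg => by
    refine centralizer_le_normalizer _ (mem_centralizer_iff.mpr ?_)
    rintro _ ⟨i, rfl⟩
    exact ((show Commute t g from mem_centralizer_iff.mp hg t rfl).zpow_left i).eq
  exact fun r hr hd => h1 r hr (hd.trans (card_dvd_of_le hle))

/-- The centraliser of an involution is the product of a normal `p`-subgroup and the Sylow `2`-subgroup. -/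
theorem centralizer_struct (Q : Sylow 2 G) {t : G} (ht : t ∈ (Q : Subgroup G)) (ht1 : t ≠ 1) :
    ∃ E : Subgroup G, IsPGroup p E ∧ E ≤ centralizer ({t} : Set G) ∧
      (Q : Subgroup G) ≤ normalizer (E : Set G) ∧
      (∀ e ∈ centralizer ({t} : Set G), IsPGroup p (zpowers e) → e ∈ E) ∧
      (∀ a ∈ E, ∀ b ∈ E, a * b = b * a) ∧
      ∀ g ∈ centralizer ({t} : Set G), ∃ e ∈ E, ∃ w ∈ (Q : Subgroup G), g = e * w := by
  classical
  haveI := Fact.mk Nat.prime_two
  haveI := Fact.mk C.prime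
  set M := centralizer ({t} : Set G) with hM
  have hQM : (Q : Subgroup G) ≤ M := fun w hw => mem_centralizer_iff.mpr (by
    rintro _ rfl; exact C.comm Q ht hw)
  have hMtwo := C.centralizer_two_elem Q ht ht1
  let Q' : Sylow 2 M := Q.subtype hQM
  have hQ' : (Q' : Subgroup M) = (Q : Subgroup G).subgroupOf M := Sylow.coe_subtype Q hQM
  have hNC : normalizer ((Q' : Subgroup M) : Set M) ≤ centralizer ((Q' : Subgroup M) : Set M) := by
    intro g hg
    have hgN : (g : G) ∈ normalizer ((Q : Subgroup G) : Set G) := by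
      refine mem_normalizer_fintype fun w hw => ?_
      have h1 : g * ⟨w, hQM hw⟩ * g⁻¹ ∈ (Q' : Subgroup M) :=
        (mem_normalizer_iff.mp hg _).mp (by rw [hQ']; exact hw)
      rw [hQ'] at h1
      exact h1
    obtain ⟨a, b, hab, ha, hb, hap, hb2⟩ := split_two C.prime hMtwo g.2
    have hle : zpowers (g : G) ≤ normalizer ((Q : Subgroup G) : Set G) ⊓ M := zpowers_le.mpr ⟨hgN, g.2⟩
    have hbQ := C.mem_of_normalizer Q (hle hb).1 hb2
    have haC := C.fix_of_fix Q (hle ha).1 hap ht ht1 ((mem_centralizer_iff.mp (hle ha).2 t rfl).symm)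
    have hgC : (g : G) ∈ centralizer ((Q : Subgroup G) : Set G) := hab ▸ mul_mem haC
      (mem_centralizer_iff.mpr fun w hw => C.comm Q hw hbQ)
    rw [mem_centralizer_iff]
    intro w hw
    rw [hQ'] at hw
    exact Subtype.ext (mem_centralizer_iff.mp hgC w hw)
  obtain ⟨φ, hKQ⟩ : ∃ φ : M →* (Q' : Subgroup M), IsComplement' φ.ker (Q' : Subgroup M) :=
    ⟨_, MonoidHom.ker_transferSylow_isComplement' Q' hNC⟩
  set K := φ.ker with hKdef
  have hKodd : ¬ 2 ∣ Nat.card K := by rw [← hKQ.index_eq_card]; exact Q'.not_dvd_index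
  have hKp : IsPGroup p K := by
    refine IsPGroup.of_card (n := (Nat.card K).primeFactorsList.length) ?_
    refine Nat.eq_prime_pow_of_unique_prime_dvd Nat.card_pos.ne' fun {d} hd hdd => ?_
    rcases hMtwo d hd (hdd.trans (card_subgroup_dvd_card K)) with h | h
    · exact h
    · exact absurd (h ▸ hdd) hKodd
  have hEp : IsPGroup p (K.map M.subtype) := hKp.map _
  refine ⟨K.map M.subtype, hEp, map_subtype_le K, ?_, ?_, ?_, ?_⟩
  · intro w hw
    refine mem_normalizer_fintype ?_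
    rintro _ ⟨k, hk, rfl⟩
    exact ⟨⟨w, hQM hw⟩ * k * ⟨w, hQM hw⟩⁻¹, (inferInstance : K.Normal).conj_mem k hk _, rfl⟩
  · intro e he hep
    refine ⟨⟨e, he⟩, ?_, rfl⟩
    obtain ⟨k, hk⟩ := IsPGroup.iff_card.mp hep
    rw [Nat.card_zpowers] at hk
    obtain ⟨j, hj⟩ := IsPGroup.iff_card.mp Q'.2
    rw [SetLike.mem_coe, hKdef, MonoidHom.mem_ker, ← orderOf_eq_one_iff]
    refine Nat.eq_one_of_dvd_coprimes (Nat.Coprime.pow k j ((Nat.coprime_primes C.prime Nat.prime_two).mpr C.ne_two)) ?_ (hj ▸ orderOf_dvd_natCard _)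
    exact (orderOf_map_dvd _ _).trans (dvd_of_eq (by rw [Subgroup.orderOf_mk, hk]))
  · intro a ha b hb
    obtain ⟨P, hP⟩ := hEp.exists_le_sylow
    exact congrArg Subtype.val ((C.ab P).is_comm.comm ⟨a, hP ha⟩ ⟨b, hP hb⟩)
  · intro g hg
    obtain ⟨⟨k, w⟩, hkw⟩ := hKQ.2 ⟨g, hg⟩
    refine ⟨((k : M) : G), ⟨k, k.2, rfl⟩, ((w : M) : G), ?_, (congrArg Subtype.val hkw).symm⟩
    exact (le_of_eq hQ' : (Q' : Subgroup M) ≤ _) w.2

/-- A proper subgroup containing `Q` and a mover normalizes `Q`. -/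
theorem key (Q : Sylow 2 G) {H : Subgroup G} (hH : H ≠ ⊤) (hQH : (Q : Subgroup G) ≤ H) {g : G}
    (hg : Mover p (Q : Subgroup G) g) (hgH : g ∈ H) : H ≤ normalizer ((Q : Subgroup G) : Set G) := by
  classical
  haveI := Fact.mk Nat.prime_two
  haveI := Fact.mk C.prime
  have h2H : 2 ∣ Nat.card H := dvd_trans (by
    rw [C.card_sylow Q, C.size]
    exact dvd_pow_self 2 (Nat.prime_two.factorization_pos_of_dvd Nat.card_pos.ne' C.dvd_two).ne') (card_dvd_of_le hQH)
  have hT : Two p 2 ↥H := C.small H hH h2H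
  haveI : Group.IsSolvable H := by
    refine CfsgLib.CharTheory.isSolvable_of_card_two_primes (a := (Nat.card H).factorization p) (b := (Nat.card H).factorization 2)
      C.prime Nat.prime_two ?_
    refine Nat.eq_of_factorization_eq Nat.card_pos.ne' (mul_ne_zero (pow_ne_zero _ C.prime.ne_zero) (pow_ne_zero _ two_ne_zero)) fun r => ?_
    rw [Nat.factorization_mul (pow_ne_zero _ C.prime.ne_zero) (pow_ne_zero _ two_ne_zero), Finsupp.add_apply,
      C.prime.factorization_pow, Nat.prime_two.factorization_pow]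
    rcases eq_or_ne r p with rfl | hrp
    · rw [Finsupp.single_eq_same, Finsupp.single_eq_of_ne C.ne_two, add_zero]
    rcases eq_or_ne r 2 with rfl | hr2
    · rw [Finsupp.single_eq_same, Finsupp.single_eq_of_ne hrp, zero_add]
    rw [Finsupp.single_eq_of_ne hrp, Finsupp.single_eq_of_ne hr2, add_zero]
    by_cases hr : r.Prime
    · exact Nat.factorization_eq_zero_of_not_dvd fun hd => (hT r hr hd).elim hrp hr2
    · exact Nat.factorization_eq_zero_of_not_prime _ hr
  let Q' : Sylow 2 H := Q.subtype hQH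
  have hQ' : (Q' : Subgroup H) = (Q : Subgroup G).subgroupOf H := Sylow.coe_subtype Q hQH
  suffices hn : (Q' : Subgroup H).Normal by
    intro h hh
    refine mem_normalizer_fintype fun w hw => ?_
    have h1 := hn.conj_mem ⟨w, hQH hw⟩ (by rw [hQ']; exact hw) ⟨h, hh⟩
    rw [hQ'] at h1
    exact h1
  have hU := CfsgLib.pCore_le_sylow Q'
  by_cases hU1 : pCore 2 ↥H = ⊥
  · exfalso
    obtain ⟨P⟩ : Nonempty (Sylow p ↥H) := inferInstance
    have hF : fittingSubgroup ↥H ≤ pCore p ↥H := by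
      rw [CfsgLib.fittingSubgroup_eq_iSup_pCore]
      refine iSup_le fun r => ?_
      haveI := Fact.mk r.2
      rcases eq_or_ne (r : ℕ) p with h | h
      · rw [h]
      rcases eq_or_ne (r : ℕ) 2 with h2 | h2
      · rw [h2, hU1]; exact bot_le
      obtain ⟨k, hk⟩ := IsPGroup.iff_card.mp (CfsgLib.isPGroup_pCore (G := ↥H) (r : ℕ))
      rcases k with _ | k
      · rw [card_eq_one.mp (hk.trans (pow_zero _))]; exact bot_le
      · exact absurd (hT r r.2 ((dvd_pow_self _ (Nat.succ_ne_zero k)).trans (hk ▸ card_subgroup_dvd_card _)))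
          (by rintro (e | e) <;> contradiction)
    obtain ⟨P₁, hP₁⟩ := (P.2.map H.subtype).exists_le_sylow
    have hle : (P : Subgroup ↥H) ≤ pCore p ↥H := by
      refine le_trans (fun a ha => ?_) (CfsgLib.centralizer_fitting_le.trans hF)
      rw [mem_centralizer_iff]
      intro b hb
      have hbP : b ∈ (P : Subgroup ↥H) := CfsgLib.pCore_le_sylow P (hF hb)
      exact Subtype.ext (congrArg Subtype.val ((C.ab P₁).is_comm.comm ⟨_, hP₁ (mem_map_of_mem _ hbP)⟩ ⟨_, hP₁ (mem_map_of_mem _ ha)⟩) :)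
    have hPn : (P : Subgroup ↥H).Normal := by
      rw [le_antisymm hle (CfsgLib.pCore_le_sylow P)]; infer_instance
    obtain ⟨P', hP'⟩ := (hg.2.1.comap_subtype : IsPGroup p ((zpowers g).subgroupOf H)).exists_le_sylow
    haveI := Sylow.unique_of_normal P hPn
    have hgP : (⟨g, hgH⟩ : H) ∈ (P : Subgroup ↥H) := Subsingleton.elim P' P ▸ hP' (mem_zpowers g)
    obtain ⟨t, ht, ht1, -⟩ := C.exists_other Q 1
    obtain ⟨w, hw, hw1, hwt⟩ := C.exists_other Q t
    obtain ⟨i, hi⟩ := hg.2.2 t ht ht1 w hw hw1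
    set c : H := ⟨g, hgH⟩ ^ i * ⟨t, hQH ht⟩ * (⟨g, hgH⟩ ^ i)⁻¹ * ⟨t, hQH ht⟩⁻¹ with hc
    have hc1 : c ∈ (P : Subgroup ↥H) := by
      have h1 : c = ⟨g, hgH⟩ ^ i * ((⟨t, hQH ht⟩ : H) * (⟨g, hgH⟩ ^ i)⁻¹ * (⟨t, hQH ht⟩ : H)⁻¹) := by
        rw [hc]; group
      rw [h1]
      exact mul_mem (pow_mem hgP i) (hPn.conj_mem _ (inv_mem (pow_mem hgP i)) _)
    have hcQ : (c : G) ∈ (Q : Subgroup G) := by
      have e : (c : G) = g ^ i * t * (g ^ i)⁻¹ * t⁻¹ := rfl
      rw [e, hi]
      exact mul_mem hw (inv_mem ht)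
    have hcone : (c : G) = 1 := eq_one_of_two_groups C.prime Nat.prime_two C.ne_two
      (P.2.map H.subtype) Q.2 (mem_map_of_mem _ hc1) hcQ
    have e : (c : G) = g ^ i * t * (g ^ i)⁻¹ * t⁻¹ := rfl
    rw [e, hi, mul_inv_eq_one] at hcone
    exact hwt hcone
  · have hQU : (Q' : Subgroup H) ≤ pCore 2 ↥H := by
      obtain ⟨⟨v, hv⟩, hv1⟩ := Subgroup.ne_bot_iff_exists_ne_one.mp hU1
      have hvQ : (v : G) ∈ (Q : Subgroup G) := by
        have := hU hv
        rwa [hQ'] at this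
      have hv1' : (v : G) ≠ 1 := fun h => hv1 (Subtype.ext (Subtype.ext h))
      intro w hw
      rw [hQ'] at hw
      rcases eq_or_ne w 1 with rfl | hw1
      · exact one_mem _
      obtain ⟨i, hi⟩ := hg.2.2 v hvQ hv1' w hw (fun h => hw1 (Subtype.ext h))
      have : w = ⟨g, hgH⟩ ^ i * v * (⟨g, hgH⟩ ^ i)⁻¹ := Subtype.ext hi.symm
      rw [this]
      exact (inferInstance : (pCore 2 ↥H).Normal).conj_mem v hv _
    rw [le_antisymm hQU hU]
    infer_instance

/-- The `p`-elements centralising `Q` commute with those normalizing it. -/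
theorem commute_central (Q : Sylow 2 G) {d g : G} (hd : d ∈ centralizer ((Q : Subgroup G) : Set G))
    (hdp : IsPGroup p (zpowers d)) (hg : g ∈ normalizer ((Q : Subgroup G) : Set G))
    (hgp : IsPGroup p (zpowers g)) : d * g = g * d := by
  classical
  haveI := Fact.mk Nat.prime_two
  haveI := Fact.mk C.prime
  obtain ⟨t, ht, ht1, -⟩ := C.exists_other Q 1
  obtain ⟨E, hEp, -, -, hmem, -, -⟩ := C.centralizer_struct Q ht ht1
  set D := E ⊓ centralizer ((Q : Subgroup G) : Set G)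
  have hle : centralizer ((Q : Subgroup G) : Set G) ≤ centralizer ({t} : Set G) :=
    centralizer_le (Set.singleton_subset_iff.mpr ht)
  have hDn : normalizer ((Q : Subgroup G) : Set G) ≤ normalizer (D : Set G) := by
    intro n hn
    refine mem_normalizer_fintype fun y hy => ?_
    have hcy : n * y * n⁻¹ ∈ centralizer ((Q : Subgroup G) : Set G) := by
      rw [mem_centralizer_iff]
      intro w hw
      have h1 : n⁻¹ * w * n ∈ (Q : Subgroup G) := by
        have := (mem_normalizer_iff.mp (inv_mem hn) w).mp hw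
        rwa [inv_inv] at this
      have h2 := mem_centralizer_iff.mp hy.2 _ h1
      calc w * (n * y * n⁻¹) = n * ((n⁻¹ * w * n) * y) * n⁻¹ := by group
        _ = n * y * n⁻¹ * w := by rw [h2]; group
    refine ⟨hmem _ (hle hcy) ?_, hcy⟩
    obtain ⟨k, hk⟩ := IsPGroup.iff_orderOf.mp hEp ⟨y, hy.1⟩
    rw [Subgroup.orderOf_mk] at hk
    refine IsPGroup.of_card (n := k) ?_
    rw [Nat.card_zpowers, show n * y * n⁻¹ = MulAut.conj n y from rfl, MulEquiv.orderOf_eq, hk]
  have hsup : IsPGroup p ↥(zpowers g ⊔ D) :=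
    hgp.to_sup_of_normal_right' (hEp.to_le inf_le_left) ((zpowers_le.mpr hg).trans hDn)
  obtain ⟨P, hP⟩ := hsup.exists_le_sylow
  exact congrArg Subtype.val ((C.ab P).is_comm.comm
    ⟨d, hP (mem_sup_right ⟨hmem d (hle hd) hdp, hd⟩)⟩ ⟨g, hP (mem_sup_left (mem_zpowers g))⟩)

/-- If `p` is not `3`, `p`-elements centralising involutions of `Q` commute. -/
theorem p_commute (Q : Sylow 2 G) (h8 : 8 ≤ p + 1) : ∀ (U W : Subgroup G), U ≤ (Q : Subgroup G) →
    W ≤ (Q : Subgroup G) → U ≠ ⊥ → W ≠ ⊥ → ∀ e f : G, IsPGroup p (zpowers e) → IsPGroup p (zpowers f) →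
      e ∈ centralizer (U : Set G) → f ∈ centralizer (W : Set G) → e * f = f * e := by
  classical
  haveI := Fact.mk Nat.prime_two
  haveI := Fact.mk C.prime
  suffices h : ∀ (m : ℕ) (U W : Subgroup G), U ≤ (Q : Subgroup G) → W ≤ (Q : Subgroup G) → U ≠ ⊥ → W ≠ ⊥ →
      2 * (p + 1) - (Nat.card U + Nat.card W) = m → ∀ e f : G, IsPGroup p (zpowers e) → IsPGroup p (zpowers f) →
      e ∈ centralizer (U : Set G) → f ∈ centralizer (W : Set G) → e * f = f * e from
    fun U W hU hW hU1 hW1 => h _ U W hU hW hU1 hW1 rfl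
  intro m
  induction m using Nat.strong_induction_on with
  | _ m ih =>
    intro U W hU hW hU1 hW1 hm e f hep hfp he hf
    by_cases hUW : U ⊓ W = ⊥
    swap
    · obtain ⟨⟨t, ht⟩, ht1⟩ := Subgroup.ne_bot_iff_exists_ne_one.mp hUW
      have ht1' : t ≠ 1 := fun h => ht1 (Subtype.ext h)
      obtain ⟨E, -, -, -, hmem, hcomm, -⟩ := C.centralizer_struct Q (hU ht.1) ht1'
      exact hcomm e (hmem e (centralizer_le (Set.singleton_subset_iff.mpr ht.1) he) hep)
        f (hmem f (centralizer_le (Set.singleton_subset_iff.mpr ht.2) hf) hfp)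
    -- one of the two subgroups has index at least four
    have hprod : Nat.card U * Nat.card W ≤ p + 1 := by
      rw [← C.card_sylow Q, ← Nat.card_prod]
      refine Nat.card_le_card_of_injective (fun x : U × W => (⟨(x.1 : G) * x.2, mul_mem (hU x.1.2) (hW x.2.2)⟩ : (Q : Subgroup G))) ?_
      intro a b h
      exact mul_injective_of_disjoint (disjoint_iff.mpr hUW) (congrArg Subtype.val h :)
    have hcase : (Nat.card U * 4 ≤ p + 1) ∨ (Nat.card W * 4 ≤ p + 1) := by
      obtain ⟨u, hu⟩ := IsPGroup.iff_card.mp (Q.2.to_le hU)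
      obtain ⟨w, hw⟩ := IsPGroup.iff_card.mp (Q.2.to_le hW)
      rw [C.size] at hprod h8 ⊢
      rw [hu, hw, ← pow_add] at hprod
      have h1 := (Nat.pow_le_pow_iff_right (by norm_num : 1 < 2)).mp hprod
      have h3 : 3 ≤ (Nat.card G).factorization 2 :=
        (Nat.pow_le_pow_iff_right (by norm_num : 1 < 2)).mp (show 2 ^ 3 ≤ _ from h8)
      rw [hu, hw, show (4 : ℕ) = 2 ^ 2 from rfl, ← pow_add, ← pow_add]
      rcases le_total u w with h | h
      · exact Or.inl (Nat.pow_le_pow_right two_pos (by omega))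
      · exact Or.inr (Nat.pow_le_pow_right two_pos (by omega))
    suffices hh : ∀ (U W : Subgroup G), U ≤ (Q : Subgroup G) → W ≤ (Q : Subgroup G) → U ≠ ⊥ → W ≠ ⊥ →
        2 * (p + 1) - (Nat.card U + Nat.card W) = m → Nat.card U * 4 ≤ p + 1 →
        ∀ e f : G, IsPGroup p (zpowers e) → IsPGroup p (zpowers f) →
        e ∈ centralizer (U : Set G) → f ∈ centralizer (W : Set G) → e * f = f * e by
      rcases hcase with h | h
      · exact hh U W hU hW hU1 hW1 hm h e f hep hfp he hf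
      · exact (hh W U hW hU hW1 hU1 (by omega) h f e hfp hep hf he).symm
    clear hep hfp he hf e f hm hU hW hU1 hW1 hUW hprod hcase U W
    intro U W hU hW hU1 hW1 hm hU4 e f hep hfp he hf
    obtain ⟨⟨t, ht⟩, ht1⟩ := Subgroup.ne_bot_iff_exists_ne_one.mp hU1
    have ht1' : t ≠ 1 := fun h => ht1 (Subtype.ext h)
    obtain ⟨E, hEp, -, hQE, hmem, -, -⟩ := C.centralizer_struct Q (hU ht) ht1'
    set K := E ⊓ centralizer (U : Set G) with hK
    have heK : e ∈ K := ⟨hmem e (centralizer_le (Set.singleton_subset_iff.mpr ht) he) hep, he⟩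
    have hnle : ∀ X : Subgroup G, Nat.card X < p + 1 → ¬ (Q : Subgroup G) ≤ X := fun X hX h =>
      absurd (card_le_of_le h) (by rw [C.card_sylow Q]; omega)
    obtain ⟨v₁, hv₁, hv₁U⟩ := SetLike.not_le_iff_exists.mp (hnle U (by have := Nat.card_pos (α := U); omega))
    have hv2 := (C.sylow_facts Q).1
    have hnorm : zpowers v₁ ≤ normalizer (U : Set G) := zpowers_le.mpr (centralizer_le_normalizer _
      (mem_centralizer_iff.mpr fun u hu => C.comm Q (hU hu) hv₁))
    have hcardU1 : Nat.card ↥(zpowers v₁ ⊔ U) < p + 1 := by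
      refine lt_of_le_of_lt (Nat.le_of_dvd (Nat.mul_pos Nat.card_pos Nat.card_pos) (card_sup_dvd_of_le_normalizer hnorm)) ?_
      have h2 : Nat.card (zpowers v₁) ≤ 2 := by
        rw [Nat.card_zpowers]
        exact orderOf_le_of_pow_eq_one two_pos (by rw [pow_two]; exact hv2 v₁ hv₁)
      calc Nat.card (zpowers v₁) * Nat.card U ≤ 2 * Nat.card U := Nat.mul_le_mul_right _ h2
        _ < p + 1 := by have := Nat.card_pos (α := U); omega
    obtain ⟨v₂, hv₂, hv₂U⟩ := SetLike.not_le_iff_exists.mp (hnle _ hcardU1)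
    set A := closure ({v₁, v₂} : Set G)
    have hAQ : A ≤ (Q : Subgroup G) := (closure_le _).mpr (by rintro _ (rfl | rfl); exacts [hv₁, hv₂])
    haveI : IsMulCommutative A := ⟨⟨fun a b => Subtype.ext (C.comm Q (hAQ a.2) (hAQ b.2))⟩⟩
    have hAmem : ∀ a ∈ A, a = 1 ∨ a = v₁ ∨ a = v₂ ∨ a = v₁ * v₂ := by
      have h11 : v₁ * v₁ = 1 := hv2 v₁ hv₁
      have h22 : v₂ * v₂ = 1 := hv2 v₂ hv₂
      have hc := C.comm Q hv₁ hv₂
      have g1 : ∀ x, v₁ * (v₁ * x) = x := fun x => by rw [← mul_assoc, h11, one_mul]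
      have g2 : ∀ x, v₂ * (v₂ * x) = x := fun x => by rw [← mul_assoc, h22, one_mul]
      have g3 : ∀ x, v₂ * (v₁ * x) = v₁ * (v₂ * x) := fun x => by rw [← mul_assoc, ← hc, mul_assoc]
      intro a ha
      induction ha using closure_induction with
      | mem x hx => rcases hx with rfl | rfl <;> simp
      | one => simp
      | mul x y _ _ ihx ihy =>
        rcases ihx with rfl | rfl | rfl | rfl <;> rcases ihy with rfl | rfl | rfl | rfl <;>
          simp [mul_assoc, g1, g2, g3, h11, h22, ← hc]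
      | inv x _ ihx =>
        rcases ihx with rfl | rfl | rfl | rfl <;>
          simp [mul_inv_rev, inv_eq_of_mul_eq_one_left h11, inv_eq_of_mul_eq_one_left h22, ← hc]
    have hAU : ∀ a ∈ A, a ≠ 1 → a ∉ U := by
      intro a ha ha1 haU
      rcases hAmem a ha with h | h | h | h
      · exact ha1 h
      · exact hv₁U (h ▸ haU)
      · exact hv₂U (mem_sup_right (h ▸ haU))
      · exact hv₂U (by
          have : v₂ = v₁⁻¹ * a := by rw [h, inv_mul_cancel_left]
          rw [this]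
          exact mul_mem (mem_sup_left (inv_mem (mem_zpowers v₁))) (mem_sup_right haU))
    have hAnc : ¬ IsCyclic A := by
      intro hc
      haveI := Fintype.ofFinite A
      have h1 := IsCyclic.card_pow_eq_one_le (α := A) two_pos
      classical
      rw [Finset.filter_true_of_mem (fun a _ => Subtype.ext (by
        rw [Subgroup.coe_pow, Subgroup.coe_one, pow_two]; exact hv2 a (hAQ a.2)))] at h1
      have h2 : ({1, ⟨v₁, subset_closure (Set.mem_insert _ _)⟩, ⟨v₂, subset_closure (Set.mem_insert_of_mem _ rfl)⟩} : Finset A).card = 3 := by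
        refine Finset.card_eq_three.mpr ⟨_, _, _, fun h => hv₁U ?_, fun h => hv₂U ?_, fun h => hv₂U ?_, rfl⟩
        · rw [show v₁ = 1 from (congrArg Subtype.val h).symm]; exact one_mem _
        · rw [show v₂ = 1 from (congrArg Subtype.val h).symm]; exact one_mem _
        · rw [show v₂ = v₁ from (congrArg Subtype.val h).symm]; exact mem_sup_left (mem_zpowers v₁)
      rw [Finset.card_univ] at h1
      have := Finset.card_le_univ ({1, ⟨v₁, subset_closure (Set.mem_insert _ _)⟩, ⟨v₂, subset_closure (Set.mem_insert_of_mem _ rfl)⟩} : Finset A)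
      omega
    have hAK : A ≤ normalizer (K : Set G) := by
      intro a ha
      refine mem_normalizer_fintype fun y hy => ⟨(mem_normalizer_iff.mp (hQE (hAQ ha)) y).mp hy.1, ?_⟩
      have hac : a ∈ centralizer (U : Set G) := mem_centralizer_iff.mpr fun u hu => C.comm Q (hU hu) (hAQ ha)
      exact (centralizer (U : Set G)).mul_mem ((centralizer (U : Set G)).mul_mem hac hy.2) ((centralizer (U : Set G)).inv_mem hac)
    have hcop : (Nat.card A).Coprime (Nat.card K) := by
      obtain ⟨i, hi⟩ := IsPGroup.iff_card.mp (Q.2.to_le hAQ)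
      obtain ⟨j, hj⟩ := IsPGroup.iff_card.mp (hEp.to_le (inf_le_left : K ≤ E))
      rw [hi, hj]
      exact Nat.Coprime.pow i j ((Nat.coprime_primes Nat.prime_two C.prime).mpr C.ne_two.symm)
    have hgen := CfsgLib.coprime_generated_by_centralizers hAnc hAK hcop
    have hle : K ≤ centralizer ({f} : Set G) := by
      rw [← hgen]
      refine iSup₂_le fun a ha x hx => ?_
      obtain ⟨hxK, hxa⟩ := hx
      rw [mem_centralizer_iff]
      rintro _ rfl
      set U' := U ⊔ zpowers a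
      have hU' : U' ≤ (Q : Subgroup G) := sup_le hU (zpowers_le.mpr (hAQ ha.1))
      have hlt : Nat.card U < Nat.card U' := lt_of_not_ge fun h => hAU a ha.1 ha.2
        ((eq_of_le_of_card_ge le_sup_left h).symm ▸ mem_sup_right (mem_zpowers a))
      have hxU' : x ∈ centralizer (U' : Set G) := by
        have : U' ≤ centralizer ({x} : Set G) := by
          refine sup_le (fun u hu => ?_) (zpowers_le.mpr ?_)
          · rw [mem_centralizer_iff]
            rintro _ rfl
            exact (mem_centralizer_iff.mp hxK.2 u hu).symm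
          · rw [mem_centralizer_iff]
            rintro _ rfl
            exact (mem_centralizer_iff.mp hxa a rfl).symm
        rw [mem_centralizer_iff]
        exact fun u hu => (mem_centralizer_iff.mp (this hu) x rfl).symm
      have hxp : IsPGroup p (zpowers x) := hEp.to_le (zpowers_le.mpr hxK.1)
      refine (ih (2 * (p + 1) - (Nat.card U' + Nat.card W)) ?_ U' W hU' hW
        (fun h => hU1 (le_bot_iff.mp (h ▸ le_sup_left))) hW1 rfl x _ hxp hfp hxU' hf).symm
      have h1 : Nat.card U' ≤ p + 1 := C.card_sylow Q ▸ card_le_of_le hU'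
      have h2 : Nat.card W ≤ p + 1 := C.card_sylow Q ▸ card_le_of_le hW
      omega
    exact (mem_centralizer_iff.mp (hle heK) f rfl).symm

/-- Centralisers of involutions of `Q` centralise `Q`, except possibly for `p = 3`. -/
theorem central (Q : Sylow 2 G) (h : 8 ≤ p + 1 ∨ ∃ d, d ≠ 1 ∧ IsPGroup p (zpowers d) ∧ d ∈ centralizer ((Q : Subgroup G) : Set G))
    {t : G} (ht : t ∈ (Q : Subgroup G)) (ht1 : t ≠ 1) :
    centralizer ({t} : Set G) ≤ centralizer ((Q : Subgroup G) : Set G) := by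
  classical
  haveI := Fact.mk Nat.prime_two
  haveI := Fact.mk C.prime
  obtain ⟨E, hEp, hEC, hQE, hmem, hcomm, hprod⟩ := C.centralizer_struct Q ht ht1
  obtain ⟨g, hg⟩ := (C.sylow_facts Q).2
  suffices hEN : E ≤ normalizer ((Q : Subgroup G) : Set G) by
    have hEQ : E ≤ centralizer ((Q : Subgroup G) : Set G) := by
      intro e he
      rw [mem_centralizer_iff]
      intro w hw
      have h1 : e * w * e⁻¹ * w⁻¹ ∈ (Q : Subgroup G) := mul_mem ((mem_normalizer_iff.mp (hEN he) w).mp hw) (inv_mem hw)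
      have h2 : e * w * e⁻¹ * w⁻¹ ∈ E := by
        rw [mul_assoc, mul_assoc, ← mul_assoc w]
        exact mul_mem he ((mem_normalizer_iff.mp (hQE hw) _).mp (inv_mem he))
      have := eq_one_of_two_groups C.prime Nat.prime_two C.ne_two hEp Q.2 h2 h1
      rw [mul_inv_eq_one, mul_inv_eq_iff_eq_mul] at this
      exact this.symm
    intro y hy
    obtain ⟨e, he, w, hw, rfl⟩ := hprod y hy
    exact mul_mem (hEQ he) (mem_centralizer_iff.mpr fun v hv => C.comm Q hv hw)
  by_cases hd : ∃ d, d ≠ 1 ∧ IsPGroup p (zpowers d) ∧ d ∈ centralizer ((Q : Subgroup G) : Set G)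
  · obtain ⟨d, hd1, hdp, hdC⟩ := hd
    have hdE : d ∈ E := hmem d (centralizer_le (Set.singleton_subset_iff.mpr ht) hdC) hdp
    refine fun e he => C.key Q (C.centralizer_p_ne_top hdp hd1) ?_ hg ?_ ?_
    · intro w hw
      rw [mem_centralizer_iff]
      rintro _ rfl
      exact (mem_centralizer_iff.mp hdC w hw).symm
    · rw [mem_centralizer_iff]
      rintro _ rfl
      exact C.commute_central Q hdC hdp hg.1 hg.2.1
    · rw [mem_centralizer_iff]
      rintro _ rfl
      exact hcomm _ hdE e he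
  have h8 := h.resolve_right hd
  rcases eq_or_ne E ⊥ with hE | hE
  · rw [hE]; exact bot_le
  set S : Set G := {e | IsPGroup p (zpowers e) ∧ ∃ u ∈ (Q : Subgroup G), u ≠ 1 ∧ e ∈ centralizer ({u} : Set G)}
  have hScomm : ∀ a ∈ S, ∀ b ∈ S, a * b = b * a := by
    rintro a ⟨hap, u, hu, hu1, hau⟩ b ⟨hbp, w, hw, hw1, hbw⟩
    refine C.p_commute Q h8 (zpowers u) (zpowers w) (zpowers_le.mpr hu) (zpowers_le.mpr hw)
      (zpowers_ne_bot.mpr hu1) (zpowers_ne_bot.mpr hw1) a b hap hbp ?_ ?_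
    · rw [mem_centralizer_iff]
      rintro _ ⟨i, rfl⟩
      exact ((show Commute u a from mem_centralizer_iff.mp hau u rfl).zpow_left i).eq
    · rw [mem_centralizer_iff]
      rintro _ ⟨i, rfl⟩
      exact ((show Commute w b from mem_centralizer_iff.mp hbw w rfl).zpow_left i).eq
  set A := closure S
  have hAp : IsPGroup p A := by
    intro a
    obtain ⟨a, ha⟩ := a
    haveI := Subgroup.isMulCommutative_closure hScomm
    suffices h' : ∃ k, a ^ p ^ k = 1 by
      obtain ⟨k, hk⟩ := h'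
      exact ⟨k, Subtype.ext hk⟩
    induction ha using closure_induction with
    | mem x hx =>
      obtain ⟨k, hk⟩ := hx.1 ⟨x, mem_zpowers x⟩
      exact ⟨k, congrArg Subtype.val hk⟩
    | one => exact ⟨0, one_pow _⟩
    | mul x y hx hy ihx ihy =>
      obtain ⟨k, hk⟩ := ihx
      obtain ⟨l, hl⟩ := ihy
      refine ⟨k + l, ?_⟩
      have hxy : Commute x y := congrArg Subtype.val ((Subgroup.isMulCommutative_closure hScomm).is_comm.comm ⟨x, hx⟩ ⟨y, hy⟩)
      rw [hxy.mul_pow, pow_add, pow_mul, hk, one_pow, one_mul, mul_comm, pow_mul, hl, one_pow]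
    | inv x hx ihx =>
      obtain ⟨k, hk⟩ := ihx
      exact ⟨k, by rw [inv_pow, hk, inv_one]⟩
  have hEA : E ≤ A := fun e he => subset_closure ⟨hEp.to_le (zpowers_le.mpr he), t, ht, ht1, hEC he⟩
  have hA1 : A ≠ ⊥ := fun h => hE (le_bot_iff.mp (h ▸ hEA))
  have hn : ∀ n ∈ normalizer ((Q : Subgroup G) : Set G), n ∈ normalizer (A : Set G) := by
    intro n hn
    refine mem_normalizer_fintype fun y hy => ?_
    suffices h' : A.map (MulAut.conj n).toMonoidHom ≤ A from h' ⟨y, hy, rfl⟩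
    rw [MonoidHom.map_closure]
    refine closure_mono ?_
    rintro _ ⟨x, ⟨hxp, u, hu, hu1, hxu⟩, rfl⟩
    refine ⟨?_, n * u * n⁻¹, (mem_normalizer_iff.mp hn u).mp hu, fun h => hu1 (conj_eq_one_iff.mp h), ?_⟩
    · obtain ⟨k, hk⟩ := IsPGroup.iff_card.mp hxp
      rw [Nat.card_zpowers] at hk
      refine IsPGroup.of_card (n := k) ?_
      rw [Nat.card_zpowers]
      exact (MulEquiv.orderOf_eq (MulAut.conj n) x).trans hk
    · rw [mem_centralizer_iff]
      rintro _ rfl
      simp only [MulEquiv.coe_toMonoidHom, MulAut.conj_apply]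
      calc n * u * n⁻¹ * (n * x * n⁻¹) = n * (u * x) * n⁻¹ := by group
        _ = _ := by rw [mem_centralizer_iff.mp hxu u rfl]; group
  refine le_trans ?_ (C.key Q (C.normalizer_p_ne_top hAp hA1) (fun w hw => hn w (le_normalizer hw)) hg (hn g hg.1))
  exact hEA.trans le_normalizer

end Cex

end CfsgLib.MixedDivisor
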