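import Mathlib
import Cfsg.Agent.Lib.MixedDivisor.Structure
import Cfsg.Agent.S4139

/-! The counting of involutions when their centralisers centralise a Sylow `2`-subgroup. -/

set_option autoImplicit false

namespace CfsgLib.MixedDivisor

open Cfsg Subgroup

universe u

variable {G : Type u} [Group G] [Finite G] {p : ℕ}

theorem inv_of_sq {s : G} (h : s * s = 1) : s⁻¹ = s := inv_eq_of_mul_eq_one_left h

theorem orderOf_two_of {s : G} (h : s * s = 1) (h1 : s ≠ 1) : orderOf s = 2 := by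
  haveI := Fact.mk Nat.prime_two
  exact orderOf_eq_prime (by rw [pow_two]; exact h) h1

theorem isPGroup_zpowers_inv {s : G} (h : s * s = 1) : IsPGroup 2 (zpowers s) :=
  isPGroup_zpowers_of_pow Nat.prime_two ⟨1, by rw [pow_one, pow_two]; exact h⟩

theorem mem_normalizer_zpowers {z g : G} (h : g * z * g⁻¹ ∈ zpowers z) : g ∈ normalizer (zpowers z : Set G) := by
  refine mem_normalizer_fintype fun y hy => ?_
  obtain ⟨i, rfl⟩ := hy
  change g * z ^ i * g⁻¹ ∈ zpowers z
  rw [← conj_zpow]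
  exact zpow_mem h i

theorem two_pow_eq_one {z : G} (hp : p.Prime) (hp2 : p ≠ 2) (hz : IsPGroup p (zpowers z)) (h : z * z = 1) : z = 1 :=
  eq_one_of_two_groups hp Nat.prime_two hp2 hz (isPGroup_zpowers_inv h) (mem_zpowers z) (mem_zpowers z)

/-- A normal subgroup of even order contains an involution commuting with a given one. -/
theorem exists_commuting_involution {H : Subgroup G} (hH : 2 ∣ Nat.card H) {s : G} (hs : s * s = 1)
    (hsH : s ∈ normalizer (H : Set G)) (hcomm : ∀ S : Sylow 2 G, ∀ a ∈ (S : Subgroup G), ∀ b ∈ (S : Subgroup G), a * b = b * a)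
    (hsq : ∀ S : Sylow 2 G, ∀ a ∈ (S : Subgroup G), a * a = 1) :
    ∃ w ∈ H, w * w = 1 ∧ w ≠ 1 ∧ w * s = s * w := by
  haveI := Fact.mk Nat.prime_two
  set N := normalizer (H : Set G)
  obtain ⟨S, hS⟩ := ((isPGroup_zpowers_inv hs).comap_subtype : IsPGroup 2 ((zpowers s).subgroupOf N)).exists_le_sylow
  haveI : (H.subgroupOf N).Normal := normal_in_normalizer
  have h1 := Cfsg.Agent.S4139.factorization_inf_sylow (H.subgroupOf N) S
  rw [Nat.card_congr (subgroupOfEquivOfLe (le_normalizer : H ≤ N)).toEquiv] at h1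
  have h2 := Nat.prime_two.factorization_pos_of_dvd Nat.card_pos.ne' hH
  have hne : (S : Subgroup N) ⊓ H.subgroupOf N ≠ ⊥ := fun h => by
    rw [h, card_bot, Nat.factorization_one, Finsupp.zero_apply] at h1
    omega
  obtain ⟨⟨w, hw⟩, hw1⟩ := Subgroup.ne_bot_iff_exists_ne_one.mp hne
  obtain ⟨S', hS'⟩ := (S.2.map N.subtype).exists_le_sylow
  have hwS : (w : G) ∈ (S' : Subgroup G) := hS' (mem_map_of_mem N.subtype hw.1)
  have hsS : s ∈ (S' : Subgroup G) :=
    hS' (mem_map_of_mem N.subtype (hS (show (⟨s, hsH⟩ : N) ∈ (zpowers s).subgroupOf N from mem_zpowers s)))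
  exact ⟨w, hw.2, hsq S' _ hwS, fun h => hw1 (Subtype.ext (Subtype.ext h)), hcomm S' _ hwS _ hsS⟩

namespace Cex

variable (C : Cex p G)
include C

theorem exists_sylow_mem {s : G} (hs : s * s = 1) : ∃ Q : Sylow 2 G, s ∈ (Q : Subgroup G) := by
  obtain ⟨Q, hQ⟩ := (isPGroup_zpowers_inv hs).exists_le_sylow
  exact ⟨Q, hQ (mem_zpowers s)⟩

theorem involutions_conj {s t : G} (hs : s * s = 1) (hs1 : s ≠ 1) (ht : t * t = 1) (ht1 : t ≠ 1) :
    ∃ c : G, c * t * c⁻¹ = s := by
  haveI := Fact.mk Nat.prime_two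
  obtain ⟨Q, hQ⟩ := C.exists_sylow_mem hs
  obtain ⟨R, hR⟩ := C.exists_sylow_mem ht
  obtain ⟨c, hc⟩ := MulAction.exists_smul_eq G R Q
  have hct : c * t * c⁻¹ ∈ (Q : Subgroup G) := by
    rw [← hc, Sylow.coe_subgroup_smul, Subgroup.pointwise_smul_def]
    exact ⟨t, hR, rfl⟩
  obtain ⟨g, hg⟩ := (C.sylow_facts Q).2
  obtain ⟨i, hi⟩ := hg.2.2 _ hct (fun h => ht1 (conj_eq_one_iff.mp h)) s hQ hs1
  exact ⟨g ^ i * c, by rw [← hi]; group⟩

theorem exists_conj_involution {s t : G} (hs : s * s = 1) (hs1 : s ≠ 1) (ht : t * t = 1) (ht1 : t ≠ 1)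
    {z : G} (hz : IsPGroup p (zpowers z)) (hzt : z * t = t * z) :
    ∃ y : G, IsPGroup p (zpowers y) ∧ y * s = s * y ∧ (z ≠ 1 → y ≠ 1) := by
  haveI := Fact.mk C.prime
  obtain ⟨c, rfl⟩ := C.involutions_conj hs hs1 ht ht1
  refine ⟨c * z * c⁻¹, ?_, ?_, fun h h' => h (conj_eq_one_iff.mp h')⟩
  · obtain ⟨k, hk⟩ := IsPGroup.iff_card.mp hz
    rw [Nat.card_zpowers] at hk
    refine IsPGroup.of_card (n := k) ?_
    rw [Nat.card_zpowers]
    exact (MulEquiv.orderOf_eq (MulAut.conj c) z).trans hk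
  · calc c * z * c⁻¹ * (c * t * c⁻¹) = c * (z * t) * c⁻¹ := by group
      _ = _ := by rw [hzt]; group

/-- The product of two involutions has only the primes `p` and `2`. -/
theorem mul_involutions {s w : G} (hs : s * s = 1) (hw : w * w = 1) (hs1 : s ≠ 1) :
    2 ∣ orderOf (s * w) ∨ IsPGroup p (zpowers (s * w)) := by
  by_cases h2 : 2 ∣ orderOf (s * w)
  · exact Or.inl h2
  refine Or.inr ?_
  haveI := Fact.mk C.prime
  refine IsPGroup.of_card (n := (orderOf (s * w)).primeFactorsList.length) ?_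
  rw [Nat.card_zpowers]
  refine Nat.eq_prime_pow_of_unique_prime_dvd (orderOf_pos _).ne' fun {r} hr hd => ?_
  by_contra hrp
  have hr2 : r ≠ 2 := fun h => h2 (h ▸ hd)
  set y := (s * w) ^ (orderOf (s * w) / r)
  have hy : orderOf y = r := orderOf_pow_orderOf_div (orderOf_pos _).ne' hd
  have hinv : s * y * s⁻¹ = y⁻¹ := by
    rw [← conj_pow, ← inv_pow]
    congr 1
    rw [mul_inv_rev, inv_of_sq hs, inv_of_sq hw, ← mul_assoc, hs, one_mul]
  refine mixed_false (G := G) (r := r) (i := 1) (j := 1) C.prime Nat.prime_two hr C.ne_two hrp hr2 C.mix C.dvd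
    (A := zpowers y) (B := zpowers s) ?_ ?_ (Or.inr ?_) (Or.inl ?_)
  · exact zpowers_le.mpr (mem_normalizer_zpowers (by rw [hinv]; exact inv_mem (mem_zpowers y)))
  · rw [Nat.card_zpowers, Nat.card_zpowers, hy, orderOf_two_of hs hs1, pow_one, pow_one]
  · rw [Nat.card_zpowers, orderOf_two_of hs hs1]
  · rw [Nat.card_zpowers, hy]

theorem centralizer_sylow_eq (h : ∀ d : G, IsPGroup p (zpowers d) →
      ∀ Q : Sylow 2 G, d ∈ centralizer ((Q : Subgroup G) : Set G) → d = 1)
    (Q : Sylow 2 G) {g : G} (hg : g ∈ centralizer ((Q : Subgroup G) : Set G)) : g ∈ (Q : Subgroup G) := by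
  haveI := Fact.mk Nat.prime_two
  have hle : centralizer ((Q : Subgroup G) : Set G) ≤ normalizer ((Q : Subgroup G) : Set G) :=
    centralizer_le_normalizer _
  have hne : (Q : Subgroup G) ≠ ⊥ := fun h => by
    have := C.card_sylow Q
    rw [h, card_bot] at this
    have := C.prime.two_le
    omega
  obtain ⟨a, b, hab, ha, hb, hap, hb2⟩ := split_two C.prime (C.normalizer_two' Q.2 hne) (hle hg)
  rw [← hab, h a hap Q (zpowers_le.mpr hg ha), one_mul]
  exact C.mem_of_normalizer Q (hle (zpowers_le.mpr hg hb)) hb2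

section Central

variable (hcen : ∀ (Q : Sylow 2 G) (t : G), t ∈ (Q : Subgroup G) → t ≠ 1 →
  centralizer ({t} : Set G) ≤ centralizer ((Q : Subgroup G) : Set G))
include hcen

theorem centralizer_odd_eq {z s : G} (hz : IsPGroup p (zpowers z)) (hz1 : z ≠ 1) (hs : s * s = 1) (hs1 : s ≠ 1)
    (hinv : s * z * s⁻¹ = z⁻¹) :
    IsPGroup p (centralizer ({z} : Set G)) ∧ ∀ Q : Sylow 2 G, s ∈ (Q : Subgroup G) → z ∉ normalizer ((Q : Subgroup G) : Set G) := by
  haveI := Fact.mk Nat.prime_two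
  have hzQ : ∀ Q : Sylow 2 G, s ∈ (Q : Subgroup G) → z ∉ normalizer ((Q : Subgroup G) : Set G) := by
    intro Q hsQ hzN
    have h1 : z * s * z⁻¹ * s⁻¹ ∈ (Q : Subgroup G) := mul_mem ((mem_normalizer_iff.mp hzN s).mp hsQ) (inv_mem hsQ)
    have h2 : z * s * z⁻¹ * s⁻¹ = z * z := by
      rw [show z * s * z⁻¹ * s⁻¹ = z * (s * z * s⁻¹)⁻¹ by group, hinv, inv_inv]
    rw [h2] at h1
    have h3 : z * z = 1 := eq_one_of_two_groups C.prime Nat.prime_two C.ne_two hz Q.2 (mul_mem (mem_zpowers z) (mem_zpowers z)) h1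
    exact hz1 (two_pow_eq_one C.prime C.ne_two hz h3)
  refine ⟨?_, hzQ⟩
  set M := centralizer ({z} : Set G)
  have hMs : s ∈ normalizer (M : Set G) := by
    refine mem_normalizer_fintype fun y hy => ?_
    rw [SetLike.mem_coe, mem_centralizer_singleton_iff]
    have hy' : Commute z y := mem_centralizer_iff.mp hy z rfl
    have h1 : s * z * s⁻¹ * (s * y * s⁻¹) = s * y * s⁻¹ * (s * z * s⁻¹) := by
      calc s * z * s⁻¹ * (s * y * s⁻¹) = s * (z * y) * s⁻¹ := by group
        _ = _ := by rw [hy'.eq]; group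
    rw [hinv] at h1
    exact (Commute.inv_left_iff.mp (show Commute z⁻¹ (s * y * s⁻¹) from h1)).eq.symm
  by_cases h2 : 2 ∣ Nat.card M
  · exfalso
    obtain ⟨w, hw, hw2, hw1, hws⟩ := exists_commuting_involution h2 hs hMs (fun S _ ha _ hb => C.comm S ha hb)
      (fun S => (C.sylow_facts S).1)
    obtain ⟨Q, hQ⟩ := C.exists_sylow_mem hs
    have hwC : w ∈ centralizer ((Q : Subgroup G) : Set G) := hcen Q s hQ hs1
      (mem_centralizer_iff.mpr (by rintro _ rfl; exact hws.symm))
    have hwQ : w ∈ (Q : Subgroup G) := C.mem_of_normalizer Q (centralizer_le_normalizer _ hwC) (isPGroup_zpowers_inv hw2)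
    refine hzQ Q hQ (centralizer_le_normalizer _ (hcen Q w hwQ hw1 (mem_centralizer_iff.mpr ?_)))
    rintro _ rfl
    exact (mem_centralizer_iff.mp hw z rfl).symm
  · set H := zpowers s ⊔ M
    have hzH : H ≤ normalizer (zpowers z : Set G) := by
      refine sup_le (zpowers_le.mpr (mem_normalizer_zpowers (by rw [hinv]; exact inv_mem (mem_zpowers z)))) fun y hy => ?_
      refine mem_normalizer_zpowers ?_
      rw [← mem_centralizer_iff.mp hy z rfl, mul_inv_cancel_right]
      exact mem_zpowers z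
    have hH : H ≠ ⊤ := fun h => C.normalizer_p_ne_top hz (fun h' => hz1 (zpowers_eq_bot.mp h')) (top_le_iff.mp (h ▸ hzH))
    have hT := C.small H hH (by
      refine dvd_trans (dvd_of_eq ?_) (card_dvd_of_le (le_sup_left : zpowers s ≤ H))
      rw [Nat.card_zpowers, orderOf_two_of hs hs1])
    haveI := Fact.mk C.prime
    refine IsPGroup.of_card (n := (Nat.card M).primeFactorsList.length) ?_
    refine Nat.eq_prime_pow_of_unique_prime_dvd Nat.card_pos.ne' fun {d} hd hdd => ?_
    rcases hT d hd (hdd.trans (card_dvd_of_le (le_sup_right : M ≤ H))) with h | h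
    · exact h
    · exact absurd (h ▸ hdd) h2

/-- A Sylow subgroup through an inverted element is its centraliser. -/
theorem centralizer_eq_sylow {z s : G} (hz : IsPGroup p (zpowers z)) (hz1 : z ≠ 1) (hs : s * s = 1) (hs1 : s ≠ 1)
    (hinv : s * z * s⁻¹ = z⁻¹) (P : Sylow p G) (hzP : z ∈ (P : Subgroup G)) :
    (P : Subgroup G) = centralizer ({z} : Set G) := by
  refine (P.3 (C.centralizer_odd_eq hcen hz hz1 hs hs1 hinv).1 fun y hy => ?_).symm
  rw [mem_centralizer_iff]
  rintro _ rfl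
  exact congrArg Subtype.val ((C.ab P).is_comm.comm ⟨_, hzP⟩ ⟨y, hy⟩)

theorem exists_outside (Q : Sylow 2 G) : ∃ s : G, s * s = 1 ∧ s ≠ 1 ∧ s ∉ (Q : Subgroup G) := by
  by_contra h
  push Not at h
  refine C.proper_of_two (C.normalizer_two' Q.2 (fun h' => by
    have := C.card_sylow Q
    rw [h', card_bot] at this
    have := C.prime.two_le
    omega)) ?_
  refine normalizer_eq_top_iff.mpr ⟨fun x hx g => ?_⟩
  rcases eq_or_ne x 1 with rfl | hx1
  · simp [one_mem]
  refine h (g * x * g⁻¹) ?_ fun h' => hx1 (conj_eq_one_iff.mp h')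
  calc g * x * g⁻¹ * (g * x * g⁻¹) = g * (x * x) * g⁻¹ := by group
    _ = 1 := by rw [(C.sylow_facts Q).1 x hx]; group

theorem product_outside (Q : Sylow 2 G) {t u : G} (ht : t ∈ (Q : Subgroup G)) (ht1 : t ≠ 1) (hu : u * u = 1)
    (hu1 : u ≠ 1) (huQ : u ∉ (Q : Subgroup G)) :
    IsPGroup p (zpowers (t * u)) ∧ t * u ≠ 1 ∧ t * (t * u) * t⁻¹ = (t * u)⁻¹ := by
  have htt := (C.sylow_facts Q).1 t ht
  have hinv : t * (t * u) * t⁻¹ = (t * u)⁻¹ := by
    rw [mul_inv_rev, inv_of_sq hu, inv_of_sq htt, ← mul_assoc, htt, one_mul]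
  have hne : t * u ≠ 1 := fun h => huQ (by rw [eq_inv_of_mul_eq_one_right h]; exact inv_mem ht)
  refine ⟨(C.mul_involutions htt hu ht1).resolve_left fun h2 => huQ ?_, hne, hinv⟩
  set w := (t * u) ^ (orderOf (t * u) / 2)
  have hw : orderOf w = 2 := orderOf_pow_orderOf_div (orderOf_pos _).ne' h2
  have hw2 : w * w = 1 := by rw [← pow_two, ← hw, pow_orderOf_eq_one]
  have hw1 : w ≠ 1 := fun h => by rw [h, orderOf_one] at hw; omega
  have hwt : t * w = w * t := by
    have h1 : t * w * t⁻¹ = w := by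
      rw [← conj_pow, hinv, inv_pow, inv_of_sq hw2]
    exact mul_inv_eq_iff_eq_mul.mp h1
  have hwu : u * w = w * u := by
    have h1 : Commute (t * u) w := (Commute.refl (t * u)).pow_right _
    calc u * w = t⁻¹ * ((t * u) * w) := by group
      _ = t⁻¹ * (w * (t * u)) := by rw [h1.eq]
      _ = t⁻¹ * (w * t) * u := by group
      _ = w * u := by rw [← hwt]; group
  have hwC : w ∈ centralizer ((Q : Subgroup G) : Set G) := hcen Q t ht ht1
    (mem_centralizer_iff.mpr (by rintro _ rfl; exact hwt))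
  have hwQ := C.mem_of_normalizer Q (centralizer_le_normalizer _ hwC) (isPGroup_zpowers_inv hw2)
  exact C.mem_of_normalizer Q (centralizer_le_normalizer _ (hcen Q w hwQ hw1
    (mem_centralizer_iff.mpr (by rintro _ rfl; exact hwu.symm)))) (isPGroup_zpowers_inv hu)

/-- No nontrivial `p`-element centralises a Sylow `2`-subgroup. -/
theorem no_central (d : G) (hd : IsPGroup p (zpowers d)) (Q : Sylow 2 G)
    (hdQ : d ∈ centralizer ((Q : Subgroup G) : Set G)) : d = 1 := by
  haveI := Fact.mk C.prime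
  haveI := Fact.mk Nat.prime_two
  by_contra hd1
  obtain ⟨t, ht, ht1, -⟩ := C.exists_other Q 1
  obtain ⟨u, hu, hu1, huQ⟩ := C.exists_outside hcen Q
  obtain ⟨hz, hz1, hinv⟩ := C.product_outside hcen Q ht ht1 hu hu1 huQ
  have htt := (C.sylow_facts Q).1 t ht
  obtain ⟨P, hP⟩ := hz.exists_le_sylow
  have hPeq := C.centralizer_eq_sylow hcen hz hz1 htt ht1 hinv P (hP (mem_zpowers _))
  -- `t` inverts `P`
  have htP : ∀ y ∈ (P : Subgroup G), t * y * t⁻¹ ∈ (P : Subgroup G) := by
    rw [hPeq]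
    intro y hy
    rw [mem_centralizer_iff]
    rintro _ rfl
    have hy' : Commute (t * u) y := mem_centralizer_iff.mp hy _ rfl
    have h1 : t * (t * u) * t⁻¹ * (t * y * t⁻¹) = t * y * t⁻¹ * (t * (t * u) * t⁻¹) := by
      calc t * (t * u) * t⁻¹ * (t * y * t⁻¹) = t * ((t * u) * y) * t⁻¹ := by group
        _ = _ := by rw [hy'.eq]; group
    rw [hinv] at h1
    exact (Commute.inv_left_iff.mp (show Commute (t * u)⁻¹ (t * y * t⁻¹) from h1)).eq
  obtain ⟨g, hg⟩ := (C.sylow_facts Q).2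
  have hfix : ∀ y ∈ (P : Subgroup G), y * t = t * y → y = 1 := by
    intro y hy hyt
    by_contra hy1
    have hyp : IsPGroup p (zpowers y) := P.2.to_le (zpowers_le.mpr hy)
    have hyC : y ∈ centralizer ((Q : Subgroup G) : Set G) := hcen Q t ht ht1
      (mem_centralizer_iff.mpr (by rintro _ rfl; exact hyt.symm))
    refine (C.centralizer_odd_eq hcen hz hz1 htt ht1 hinv).2 Q ht
      (C.key Q (C.centralizer_p_ne_top hyp hy1) ?_ hg ?_ ?_)
    · intro w hw
      rw [mem_centralizer_iff]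
      rintro _ rfl
      exact (mem_centralizer_iff.mp hyC w hw).symm
    · rw [mem_centralizer_iff]
      rintro _ rfl
      exact C.commute_central Q hyC hyp hg.1 hg.2.1
    · rw [mem_centralizer_iff]
      rintro _ rfl
      exact congrArg Subtype.val ((C.ab P).is_comm.comm ⟨_, hy⟩ ⟨_, hP (mem_zpowers _)⟩)
  have htinv : ∀ y ∈ (P : Subgroup G), t * y * t⁻¹ = y⁻¹ := by
    intro y hy
    have hmem : y * (t * y * t⁻¹) ∈ (P : Subgroup G) := mul_mem hy (htP y hy)
    have hc : (t * y * t⁻¹) * y = y * (t * y * t⁻¹) :=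
      congrArg Subtype.val ((C.ab P).is_comm.comm ⟨_, htP y hy⟩ ⟨y, hy⟩)
    have h1 := hfix _ hmem (by
      rw [inv_of_sq htt] at hc ⊢
      calc y * (t * y * t) * t = y * t * y * (t * t) := by group
        _ = y * t * y := by rw [htt, mul_one]
        _ = t * t * (y * t * y) := by rw [htt, one_mul]
        _ = t * ((t * y * t) * y) := by group
        _ = t * (y * (t * y * t)) := by rw [hc])
    exact eq_inv_of_mul_eq_one_right h1
  -- move `d` into `P`
  obtain ⟨P₀, hP₀⟩ := hd.exists_le_sylow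
  obtain ⟨c, hc⟩ := MulAction.exists_smul_eq G P P₀
  have hdP : c⁻¹ * d * c ∈ (P : Subgroup G) := by
    have h := hP₀ (mem_zpowers d)
    rw [← hc, Sylow.coe_subgroup_smul, Subgroup.mem_pointwise_smul_iff_inv_smul_mem] at h
    simpa [MulAut.smul_def, MulAut.conj_inv_apply, MulAut.inv_def] using h
  set s := c * t * c⁻¹
  have hsd : s * d * s⁻¹ = d⁻¹ := by
    calc s * d * s⁻¹ = c * (t * (c⁻¹ * d * c) * t⁻¹) * c⁻¹ := by simp only [s]; group
      _ = d⁻¹ := by rw [htinv _ hdP]; group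
  have hN : normalizer (zpowers d : Set G) ≠ ⊤ := C.normalizer_p_ne_top hd fun h => hd1 (zpowers_eq_bot.mp h)
  have hQN : (Q : Subgroup G) ≤ normalizer (zpowers d : Set G) := fun w hw =>
    mem_normalizer_zpowers (by rw [mem_centralizer_iff.mp hdQ w hw, mul_inv_cancel_right]; exact mem_zpowers d)
  have hgN : g ∈ normalizer (zpowers d : Set G) := mem_normalizer_zpowers
    (by rw [← C.commute_central Q hdQ hd hg.1 hg.2.1, mul_inv_cancel_right]; exact mem_zpowers d)
  have hs2 : s * s = 1 := by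
    calc s * s = c * (t * t) * c⁻¹ := by simp only [s]; group
      _ = 1 := by rw [htt]; group
  have hsQ : s ∈ (Q : Subgroup G) := C.mem_of_normalizer Q
    (C.key Q hN hQN hg hgN (mem_normalizer_zpowers (by rw [hsd]; exact inv_mem (mem_zpowers d)))) (isPGroup_zpowers_inv hs2)
  rw [mem_centralizer_iff.mp hdQ s hsQ, mul_inv_cancel_right] at hsd
  exact hd1 (two_pow_eq_one C.prime C.ne_two hd (mul_eq_one_iff_eq_inv.mpr hsd))

/-- The contradiction. -/
theorem count_false : False := by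
  classical
  haveI := Fact.mk C.prime
  haveI := Fact.mk Nat.prime_two
  haveI := Fintype.ofFinite G
  obtain ⟨Q⟩ : Nonempty (Sylow 2 G) := inferInstance
  obtain ⟨t, htQ, ht1, -⟩ := C.exists_other Q 1
  have htt := (C.sylow_facts Q).1 t htQ
  have hCQ : centralizer ((Q : Subgroup G) : Set G) = (Q : Subgroup G) := le_antisymm
    (fun g hg => C.centralizer_sylow_eq (C.no_central hcen) Q hg) fun w hw =>
      mem_centralizer_iff.mpr fun v hv => C.comm Q hv hw
  have hCt : centralizer ({t} : Set G) = (Q : Subgroup G) := le_antisymm ((hcen Q t htQ ht1).trans hCQ.le)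
    fun w hw => mem_centralizer_iff.mpr (by rintro _ rfl; exact C.comm Q htQ hw)
  -- involutions normalizing a Sylow `p`-subgroup
  have hnorm : ∀ (P : Sylow p G) (s : G), s * s = 1 → s ≠ 1 → s ∈ normalizer ((P : Subgroup G) : Set G) →
      ∀ y ∈ (P : Subgroup G), s * y * s⁻¹ = y⁻¹ := by
    intro P s hs hs1 hsN y hy
    obtain ⟨R, hR⟩ := C.exists_sylow_mem hs
    have hfix : ∀ v ∈ (P : Subgroup G), v * s = s * v → v = 1 := fun v hv hvs =>
      C.no_central hcen v (P.2.to_le (zpowers_le.mpr hv)) R (hcen R s hR hs1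
        (mem_centralizer_iff.mpr (by rintro _ rfl; exact hvs.symm)))
    have hy' := (mem_normalizer_iff.mp hsN y).mp hy
    have hc : (s * y * s⁻¹) * y = y * (s * y * s⁻¹) :=
      congrArg Subtype.val ((C.ab P).is_comm.comm ⟨_, hy'⟩ ⟨y, hy⟩)
    have h1 := hfix _ (mul_mem hy hy') (by
      rw [inv_of_sq hs] at hc ⊢
      calc y * (s * y * s) * s = y * s * y * (s * s) := by group
        _ = y * s * y := by rw [hs, mul_one]
        _ = s * s * (y * s * y) := by rw [hs, one_mul]
        _ = s * ((s * y * s) * y) := by group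
        _ = s * (y * (s * y * s)) := by rw [hc])
    exact eq_inv_of_mul_eq_one_right h1
  obtain ⟨u₀, hu₀, hu₀1, hu₀Q⟩ := C.exists_outside hcen Q
  obtain ⟨hz₀, hz₀1, hinv₀⟩ := C.product_outside hcen Q htQ ht1 hu₀ hu₀1 hu₀Q
  obtain ⟨P₀, hP₀⟩ := hz₀.exists_le_sylow
  have hnormP : ∀ (P : Sylow p G) (z s : G), z ∈ (P : Subgroup G) → IsPGroup p (zpowers z) → z ≠ 1 → s * s = 1 →
      s ≠ 1 → s * z * s⁻¹ = z⁻¹ → s ∈ normalizer ((P : Subgroup G) : Set G) := by
    intro P z s hzP hz hz1 hs hs1 hinv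
    have hPeq := C.centralizer_eq_sylow hcen hz hz1 hs hs1 hinv P hzP
    refine mem_normalizer_fintype fun y hy => ?_
    rw [hPeq, SetLike.mem_coe] at hy ⊢
    rw [mem_centralizer_singleton_iff]
    have hy' : Commute z y := mem_centralizer_iff.mp hy z rfl
    have h1 : s * z * s⁻¹ * (s * y * s⁻¹) = s * y * s⁻¹ * (s * z * s⁻¹) := by
      calc s * z * s⁻¹ * (s * y * s⁻¹) = s * (z * y) * s⁻¹ := by group
        _ = _ := by rw [hy'.eq]; group
    rw [hinv] at h1
    exact (Commute.inv_left_iff.mp (show Commute z⁻¹ (s * y * s⁻¹) from h1)).eq.symm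
  have ht₀ : t ∈ normalizer ((P₀ : Subgroup G) : Set G) :=
    hnormP P₀ _ t (hP₀ (mem_zpowers _)) hz₀ hz₀1 htt ht1 hinv₀
  -- the involutions normalizing `P` correspond to `P`
  have hNP : ∀ P : Sylow p G, Nat.card {s : G // (s * s = 1 ∧ s ≠ 1) ∧ s ∈ normalizer ((P : Subgroup G) : Set G)} =
      Nat.card (P : Subgroup G) := by
    intro P
    obtain ⟨c, hc⟩ := MulAction.exists_smul_eq G P₀ P
    set a := c * t * c⁻¹
    have ha : a * a = 1 := by
      calc a * a = c * (t * t) * c⁻¹ := by simp only [a]; group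
        _ = 1 := by rw [htt]; group
    have ha1 : a ≠ 1 := fun h => ht1 (conj_eq_one_iff.mp h)
    have hmem : ∀ y, y ∈ (P : Subgroup G) ↔ c⁻¹ * y * c ∈ (P₀ : Subgroup G) := by
      intro y
      rw [← hc, Sylow.coe_subgroup_smul, Subgroup.mem_pointwise_smul_iff_inv_smul_mem]
      simp [MulAut.smul_def, MulAut.conj_inv_apply, MulAut.inv_def]
    have haN : a ∈ normalizer ((P : Subgroup G) : Set G) := by
      rw [mem_normalizer_iff]
      intro y
      rw [hmem, hmem, show c⁻¹ * (a * y * a⁻¹) * c = t * (c⁻¹ * y * c) * t⁻¹ by simp only [a]; group]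
      exact mem_normalizer_iff.mp ht₀ _
    have hb : ∀ y ∈ (P : Subgroup G), (y * a) * (y * a) = 1 ∧ y * a ≠ 1 ∧ y * a ∈ normalizer ((P : Subgroup G) : Set G) := by
      intro y hy
      refine ⟨?_, fun h => ?_, mul_mem (le_normalizer hy) haN⟩
      · have h1 := hnorm P a ha ha1 haN y hy
        rw [inv_of_sq ha] at h1
        calc y * a * (y * a) = y * (a * y * a) := by group
          _ = 1 := by rw [h1, mul_inv_cancel]
      · have : a ∈ (P : Subgroup G) := by rw [eq_inv_of_mul_eq_one_right h]; exact inv_mem hy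
        exact ha1 (eq_one_of_two_groups C.prime Nat.prime_two C.ne_two P.2 (isPGroup_zpowers_inv ha) this (mem_zpowers a))
    have hback : ∀ s : G, (s * s = 1 ∧ s ≠ 1) ∧ s ∈ normalizer ((P : Subgroup G) : Set G) → s * a ∈ (P : Subgroup G) := by
      rintro s ⟨⟨hs, hs1⟩, hsN⟩
      obtain ⟨z, hz, hz1⟩ : ∃ z, z ∈ (P : Subgroup G) ∧ z ≠ 1 :=
        ⟨c * (t * u₀) * c⁻¹, by rw [hmem, show c⁻¹ * (c * (t * u₀) * c⁻¹) * c = t * u₀ by group]; exact hP₀ (mem_zpowers _),
          fun h => hz₀1 (conj_eq_one_iff.mp h)⟩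
      rw [C.centralizer_eq_sylow hcen (P.2.to_le (zpowers_le.mpr hz)) hz1 ha ha1 (hnorm P a ha ha1 haN z hz) P hz,
        mem_centralizer_singleton_iff]
      have h1 := hnorm P s hs hs1 hsN _ (inv_mem hz)
      have h2 := hnorm P a ha ha1 haN _ hz
      have h3 : s * a * z * (s * a)⁻¹ = z := by
        calc s * a * z * (s * a)⁻¹ = s * (a * z * a⁻¹) * s⁻¹ := by group
          _ = z := by rw [h2, h1, inv_inv]
      exact mul_inv_eq_iff_eq_mul.mp h3
    exact (Nat.card_congr ⟨fun y => ⟨(y : G) * a, ⟨(hb y y.2).1, (hb y y.2).2.1⟩, (hb y y.2).2.2⟩,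
      fun s => ⟨(s : G) * a, hback s s.2⟩, fun y => Subtype.ext (show (y : G) * a * a = y by rw [mul_assoc, ha, mul_one]),
      fun s => Subtype.ext (show (s : G) * a * a = s by rw [mul_assoc, ha, mul_one])⟩).symm
  have hNcard : Nat.card (normalizer ((P₀ : Subgroup G) : Set G)) = 2 * Nat.card (P₀ : Subgroup G) := by
    set N := normalizer ((P₀ : Subgroup G) : Set G)
    have hP₀ne : (P₀ : Subgroup G) ≠ ⊥ := fun h => hz₀1 (mem_bot.mp (h ▸ hP₀ (mem_zpowers _)))
    have h2N : 2 ∣ Nat.card N := by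
      rw [← orderOf_two_of htt ht1]; exact Subgroup.orderOf_dvd_natCard N ht₀
    have hT := C.small N (C.normalizer_p_ne_top P₀.2 hP₀ne) h2N
    have hfac2 : (Nat.card N).factorization 2 = 1 := by
      refine le_antisymm ?_ (Nat.prime_two.factorization_pos_of_dvd Nat.card_pos.ne' h2N)
      by_contra hlt
      push Not at hlt
      obtain ⟨S, hS⟩ := Sylow.exists_subgroup_card_pow_prime 2
        ((Nat.prime_two.pow_dvd_iff_le_factorization Nat.card_pos.ne').mpr hlt : 2 ^ 2 ∣ Nat.card N)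
      have hSp : IsPGroup 2 (S.map N.subtype) := (IsPGroup.of_card hS).map _
      obtain ⟨R, hR⟩ := hSp.exists_le_sylow
      haveI := Fintype.ofFinite (S.map N.subtype)
      have h4 : Fintype.card (S.map N.subtype) = 4 := by
        rw [← Nat.card_eq_fintype_card, Subgroup.card_map_of_injective N.subtype_injective, hS]; rfl
      obtain ⟨s, hs1⟩ := Fintype.exists_ne_of_one_lt_card (by omega) (1 : S.map N.subtype)
      obtain ⟨w, hw1, hws⟩ : ∃ w : S.map N.subtype, w ≠ 1 ∧ w ≠ s := by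
        by_contra hh
        push Not at hh
        have hle : (Finset.univ : Finset (S.map N.subtype)) ⊆ {1, s} := fun w _ => by
          rcases eq_or_ne w 1 with rfl | h
          · simp
          · simp [hh w h]
        have := (Finset.card_le_card hle).trans Finset.card_le_two
        rw [Finset.card_univ] at this
        omega
      have hs1' : (s : G) ≠ 1 := fun h => hs1 (Subtype.ext h)
      have hw1' : (w : G) ≠ 1 := fun h => hw1 (Subtype.ext h)
      have hsR := (C.sylow_facts R).1 _ (hR s.2)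
      have hwR := (C.sylow_facts R).1 _ (hR w.2)
      have h1 := hnorm P₀ s hsR hs1' (map_subtype_le S s.2) _ (inv_mem (hP₀ (mem_zpowers _)))
      have h2 := hnorm P₀ w hwR hw1' (map_subtype_le S w.2) _ (hP₀ (mem_zpowers _))
      have hsw : (s : G) * w ∈ (P₀ : Subgroup G) := by
        rw [C.centralizer_eq_sylow hcen hz₀ hz₀1 htt ht1 hinv₀ P₀ (hP₀ (mem_zpowers _)), mem_centralizer_iff]
        rintro _ rfl
        have h3 : (s : G) * w * (t * u₀) * ((s : G) * w)⁻¹ = t * u₀ := by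
          calc (s : G) * w * (t * u₀) * ((s : G) * w)⁻¹ = s * (w * (t * u₀) * (w : G)⁻¹) * (s : G)⁻¹ := by group
            _ = t * u₀ := by rw [h2, h1, inv_inv]
        exact (mul_inv_eq_iff_eq_mul.mp h3).symm
      have h5 := eq_one_of_two_groups C.prime Nat.prime_two C.ne_two P₀.2 R.2 hsw (mul_mem (hR s.2) (hR w.2))
      exact hws (Subtype.ext ((eq_inv_of_mul_eq_one_right h5).trans (inv_of_sq hsR)))
    refine Nat.eq_of_factorization_eq Nat.card_pos.ne' (Nat.mul_pos two_pos Nat.card_pos).ne' fun r => ?_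
    rw [Nat.factorization_mul two_ne_zero Nat.card_pos.ne', Finsupp.add_apply, P₀.card_eq_multiplicity,
      C.prime.factorization_pow, Nat.prime_two.factorization]
    rcases eq_or_ne r p with rfl | hrp
    · rw [Finsupp.single_eq_same, Finsupp.single_eq_of_ne C.ne_two, zero_add]
      refine le_antisymm ((Nat.factorization_le_iff_dvd Nat.card_pos.ne' Nat.card_pos.ne').mpr (card_subgroup_dvd_card N) _) ?_
      have h1 := (Nat.factorization_le_iff_dvd Nat.card_pos.ne' Nat.card_pos.ne').mpr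
        (card_dvd_of_le (le_normalizer : (P₀ : Subgroup G) ≤ N)) r
      rwa [P₀.card_eq_multiplicity, C.prime.factorization_pow, Finsupp.single_eq_same] at h1
    rcases eq_or_ne r 2 with rfl | hr2
    · rw [Finsupp.single_eq_same, Finsupp.single_eq_of_ne hrp, add_zero, hfac2]
    rw [Finsupp.single_eq_of_ne hrp, Finsupp.single_eq_of_ne hr2, add_zero]
    by_cases hr : r.Prime
    · exact Nat.factorization_eq_zero_of_not_dvd fun hd => (hT r hr hd).elim hrp hr2
    · exact Nat.factorization_eq_zero_of_not_prime _ hr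
  -- the number of Sylow subgroups normalized by an involution
  set k := Nat.card {P : Sylow p G // t ∈ normalizer ((P : Subgroup G) : Set G)}
  have hk : ∀ s : G, s * s = 1 → s ≠ 1 → Nat.card {P : Sylow p G // s ∈ normalizer ((P : Subgroup G) : Set G)} = k := by
    intro s hs hs1
    obtain ⟨c, rfl⟩ := C.involutions_conj hs hs1 htt ht1
    symm
    refine Nat.card_congr ((MulAction.toPerm c : Equiv.Perm (Sylow p G)).subtypeEquiv fun P => ?_)
    rw [MulAction.toPerm_apply]
    have hmem : ∀ y, y ∈ ((c • P : Sylow p G) : Subgroup G) ↔ c⁻¹ * y * c ∈ (P : Subgroup G) := by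
      intro y
      rw [Sylow.coe_subgroup_smul, Subgroup.mem_pointwise_smul_iff_inv_smul_mem]
      simp [MulAut.smul_def, MulAut.conj_inv_apply, MulAut.inv_def]
    rw [mem_normalizer_iff, mem_normalizer_iff]
    constructor
    · intro h y
      rw [hmem, hmem, show c⁻¹ * (c * t * c⁻¹ * y * (c * t * c⁻¹)⁻¹) * c = t * (c⁻¹ * y * c) * t⁻¹ by group]
      exact h _
    · intro h y
      have h1 := h (c * y * c⁻¹)
      rw [hmem, hmem, show c⁻¹ * (c * t * c⁻¹ * (c * y * c⁻¹) * (c * t * c⁻¹)⁻¹) * c = t * y * t⁻¹ by group,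
        show c⁻¹ * (c * y * c⁻¹) * c = y by group] at h1
      exact h1
  set T := {s : G // s * s = 1 ∧ s ≠ 1}
  haveI : Fintype (Sylow p G) := Fintype.ofFinite _
  have hpairs : Nat.card T * k = Nat.card (Sylow p G) * Nat.card (P₀ : Subgroup G) := by
    have h1 : Nat.card (Σ s : T, {P : Sylow p G // (s : G) ∈ normalizer ((P : Subgroup G) : Set G)}) = Nat.card T * k := by
      rw [Nat.card_sigma, Finset.sum_congr rfl (fun (s : T) _ => hk (s : G) s.2.1 s.2.2), Finset.sum_const, Finset.card_univ,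
        Nat.card_eq_fintype_card, smul_eq_mul]
    have h2 : Nat.card (Σ P : Sylow p G, {s : G // (s * s = 1 ∧ s ≠ 1) ∧ s ∈ normalizer ((P : Subgroup G) : Set G)}) =
        Nat.card (Sylow p G) * Nat.card (P₀ : Subgroup G) := by
      rw [Nat.card_sigma, Finset.sum_congr rfl (fun P _ => (hNP P).trans (P.card_eq_multiplicity.trans P₀.card_eq_multiplicity.symm)),
        Finset.sum_const, Finset.card_univ, Nat.card_eq_fintype_card (α := Sylow p G), smul_eq_mul]
    rw [← h1, ← h2]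
    exact Nat.card_congr ⟨fun x => ⟨x.2.1, x.1.1, x.1.2, x.2.2⟩, fun x => ⟨⟨x.2.1, x.2.2.1⟩, x.1, x.2.2.2⟩,
      fun _ => rfl, fun _ => rfl⟩
  have hsylc : Nat.card (Sylow p G) * (2 * Nat.card (P₀ : Subgroup G)) = Nat.card G := by
    rw [← hNcard, P₀.card_eq_index_normalizer]
    exact index_mul_card _
  have hT : Nat.card T * Nat.card (Q : Subgroup G) = Nat.card G := by
    have hsz : Cfsg.Agent.S4139.sz t = (Q : Subgroup G).index := by rw [Cfsg.Agent.S4139.sz, hCt]
    rw [Cfsg.Agent.S4139.sz_eq] at hsz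
    have hiff : ∀ s : G, s ∈ (ConjClasses.mk t).carrier ↔ (s * s = 1 ∧ s ≠ 1) := by
      intro s
      rw [ConjClasses.mem_carrier_iff_mk_eq, ConjClasses.mk_eq_mk_iff_isConj, isConj_iff]
      constructor
      · rintro ⟨c, hc⟩
        have hs : s = c⁻¹ * t * c⁻¹⁻¹ := by rw [← hc]; group
        refine ⟨?_, fun h => ht1 (conj_eq_one_iff.mp (hs.symm.trans h))⟩
        calc s * s = c⁻¹ * (t * t) * c := by rw [hs]; group
          _ = 1 := by rw [htt]; group
      · rintro ⟨hs, hs1⟩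
        exact C.involutions_conj htt ht1 hs hs1
    rw [Nat.card_congr (Equiv.subtypeEquivRight fun s => (hiff s).symm), hsz]
    exact index_mul_card _
  -- the bijection
  have hbij : Nat.card {s : G // (s * s = 1 ∧ s ≠ 1) ∧ s ∉ (Q : Subgroup G)} = k * (Nat.card (P₀ : Subgroup G) - 1) := by
    have h1 : Nat.card (Σ P : {P : Sylow p G // t ∈ normalizer ((P : Subgroup G) : Set G)},
        {z : G // z ∈ (P.1 : Subgroup G) ∧ z ≠ 1}) = k * (Nat.card (P₀ : Subgroup G) - 1) := by
      have : ∀ P : Sylow p G, Nat.card {z : G // z ∈ (P : Subgroup G) ∧ z ≠ 1} = Nat.card (P₀ : Subgroup G) - 1 := by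
        intro P
        rw [show Nat.card (P₀ : Subgroup G) = Nat.card (P : Subgroup G) from P₀.card_eq_multiplicity.trans P.card_eq_multiplicity.symm]
        have e : {z : G // z ∈ (P : Subgroup G) ∧ z ≠ 1} ≃ {z : (P : Subgroup G) // z ≠ 1} :=
          ⟨fun z => ⟨⟨z.1, z.2.1⟩, fun h => z.2.2 (congrArg Subtype.val h)⟩,
            fun z => ⟨z.1, z.1.2, fun h => z.2 (Subtype.ext h)⟩, fun _ => rfl, fun _ => rfl⟩
        rw [Nat.card_congr e, Nat.card_eq_fintype_card, Fintype.card_subtype_compl, Fintype.card_subtype_eq,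
          ← Nat.card_eq_fintype_card]
      rw [Nat.card_sigma, Finset.sum_congr rfl (fun P _ => this P.1), Finset.sum_const, Finset.card_univ,
        smul_eq_mul]
      congr 1
      exact Nat.card_eq_fintype_card.symm
    rw [← h1]
    symm
    refine Nat.card_eq_of_bijective (fun x => ⟨t * x.2.1, ⟨?_, ?_⟩, ?_⟩) ⟨?_, ?_⟩
    · have h := hnorm x.1.1 t htt ht1 x.1.2 _ x.2.2.1
      rw [inv_of_sq htt] at h
      calc t * x.2.1 * (t * x.2.1) = t * x.2.1 * t * x.2.1 := by group
        _ = 1 := by rw [h, inv_mul_cancel]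
    · intro h
      exact ht1 (eq_one_of_two_groups C.prime Nat.prime_two C.ne_two x.1.1.2 (isPGroup_zpowers_inv htt)
        ((congrArg (fun v => v ∈ (x.1.1 : Subgroup G)) (eq_inv_of_mul_eq_one_left h)).mpr (inv_mem x.2.2.1)) (mem_zpowers t))
    · intro h
      refine x.2.2.2 (eq_one_of_two_groups C.prime Nat.prime_two C.ne_two x.1.1.2 Q.2 x.2.2.1 ?_)
      rw [show x.2.1 = t⁻¹ * (t * x.2.1) by group]
      exact mul_mem (inv_mem htQ) h
    · rintro ⟨P, z, hz⟩ ⟨P', z', hz'⟩ h
      have hzz : z = z' := mul_left_cancel (congrArg Subtype.val h :)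
      subst hzz
      have e : (P.1 : Subgroup G) = (P'.1 : Subgroup G) := by
        rw [C.centralizer_eq_sylow hcen (P.1.2.to_le (zpowers_le.mpr hz.1)) hz.2 htt ht1 (hnorm P.1 t htt ht1 P.2 z hz.1) P.1 hz.1,
          C.centralizer_eq_sylow hcen (P.1.2.to_le (zpowers_le.mpr hz.1)) hz.2 htt ht1 (hnorm P.1 t htt ht1 P.2 z hz.1) P'.1 hz'.1]
      obtain rfl : P = P' := Subtype.ext (Sylow.ext e)
      rfl
    · rintro ⟨s, ⟨hs, hs1⟩, hsQ⟩
      obtain ⟨hz, hz1, hinv⟩ := C.product_outside hcen Q htQ ht1 hs hs1 hsQ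
      obtain ⟨P, hP⟩ := hz.exists_le_sylow
      refine ⟨⟨⟨P, hnormP P _ t (hP (mem_zpowers _)) hz hz1 htt ht1 hinv⟩, t * s, hP (mem_zpowers _), hz1⟩, Subtype.ext ?_⟩
      change t * (t * s) = s
      rw [← mul_assoc, htt, one_mul]
  have hTsplit : Nat.card T = p + k * (Nat.card (P₀ : Subgroup G) - 1) := by
    rw [← hbij]
    have h1 : Nat.card {s : G // (s * s = 1 ∧ s ≠ 1) ∧ s ∈ (Q : Subgroup G)} = p := by
      have h2 : Nat.card {s : (Q : Subgroup G) // s ≠ 1} = p := by
        rw [Nat.card_eq_fintype_card, Fintype.card_subtype_compl, Fintype.card_subtype_eq,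
          ← Nat.card_eq_fintype_card, C.card_sylow Q, Nat.add_sub_cancel]
      rw [← h2]
      exact Nat.card_congr ⟨fun s => ⟨⟨s.1, s.2.2⟩, fun h => s.2.1.2 (congrArg Subtype.val h)⟩,
        fun s => ⟨s.1.1, ⟨(C.sylow_facts Q).1 _ s.1.2, fun h => s.2 (Subtype.ext h)⟩, s.1.2⟩, fun _ => rfl, fun _ => rfl⟩
    conv_rhs => rw [← h1]
    rw [← Nat.card_sum]
    refine Nat.card_congr ((Equiv.sumCompl fun s : T => (s : G) ∈ (Q : Subgroup G)).symm.trans (Equiv.sumCongr ?_ ?_))
    · exact Equiv.subtypeSubtypeEquivSubtypeInter (fun s : G => s * s = 1 ∧ s ≠ 1) (fun s => s ∈ (Q : Subgroup G))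
    · exact Equiv.subtypeSubtypeEquivSubtypeInter (fun s : G => s * s = 1 ∧ s ≠ 1) (fun s => s ∉ (Q : Subgroup G))
  -- the contradiction modulo `p`
  have hTpos : 0 < Nat.card T := by
    haveI : Nonempty T := ⟨⟨t, htt, ht1⟩⟩
    exact Nat.card_pos
  have h2k : 2 * k = p + 1 := by
    refine Nat.eq_of_mul_eq_mul_left hTpos ?_
    rw [← C.card_sylow Q, hT, ← hsylc]
    calc Nat.card T * (2 * k) = 2 * (Nat.card T * k) := by ring
      _ = _ := by rw [hpairs]; ring
  have hpT : p ∣ Nat.card T := by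
    have h1 : p ∣ Nat.card T * (p + 1) := by rw [← C.card_sylow Q, hT]; exact C.dvd
    rcases C.prime.dvd_mul.mp h1 with h | h
    · exact h
    · exact absurd ((Nat.dvd_add_right (dvd_refl p)).mp h) C.prime.not_dvd_one
  rw [hTsplit, Nat.dvd_add_right (dvd_refl p)] at hpT
  have hP0p : p ∣ Nat.card (P₀ : Subgroup G) := by
    rw [P₀.card_eq_multiplicity]
    exact dvd_pow_self p (C.prime.factorization_pos_of_dvd Nat.card_pos.ne' C.dvd).ne'
  rcases C.prime.dvd_mul.mp hpT with h | h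
  · have : p ∣ p + 1 := h2k ▸ Dvd.dvd.mul_left h 2
    exact C.prime.not_dvd_one ((Nat.dvd_add_right (dvd_refl p)).mp this)
  · have h1 : Nat.card (P₀ : Subgroup G) = (Nat.card (P₀ : Subgroup G) - 1) + 1 := by
      have := Nat.card_pos (α := (P₀ : Subgroup G))
      omega
    rw [h1] at hP0p
    exact C.prime.not_dvd_one ((Nat.dvd_add_right h).mp hP0p)

end Central

end Cex

end CfsgLib.MixedDivisor
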