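import Mathlib
import Cfsg.Agent.Lib.MixedDivisor.Count
import Cfsg.Agent.Lib.CyclicSylowAbelian.Friendship

/-! The case `p = 3`: the commuting graph on involutions would be a regular friendship graph. -/

set_option autoImplicit false

namespace CfsgLib.MixedDivisor

open Cfsg Subgroup
open scoped Pointwise

universe u

variable {G : Type u} [Group G] [Finite G] {p : ℕ}

theorem mem_sylow_smul (P : Sylow p G) (c y : G) :
    y ∈ ((c • P : Sylow p G) : Subgroup G) ↔ c⁻¹ * y * c ∈ (P : Subgroup G) := by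
  rw [Sylow.coe_subgroup_smul, Subgroup.mem_pointwise_smul_iff_inv_smul_mem]
  simp [MulAut.smul_def, MulAut.inv_def]

theorem isPGroup_zpowers_conj (hp : p.Prime) {z : G} (hz : IsPGroup p (zpowers z)) (c : G) :
    IsPGroup p (zpowers (c * z * c⁻¹)) := by
  haveI := Fact.mk hp
  obtain ⟨k, hk⟩ := IsPGroup.iff_card.mp hz
  rw [Nat.card_zpowers] at hk
  refine IsPGroup.of_card (n := k) ?_
  rw [Nat.card_zpowers]
  exact (MulEquiv.orderOf_eq (MulAut.conj c) z).trans hk

theorem conj_commute {z t : G} (h : z * t = t * z) (c : G) :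
    (c * z * c⁻¹) * (c * t * c⁻¹) = (c * t * c⁻¹) * (c * z * c⁻¹) := by
  calc c * z * c⁻¹ * (c * t * c⁻¹) = c * (z * t) * c⁻¹ := by group
    _ = _ := by rw [h]; group

/-- The central involution of a dihedral group of order divisible by four. -/
theorem exists_central_involution {a b : G} (ha : a * a = 1) (hb : b * b = 1) (h2 : 2 ∣ orderOf (a * b)) :
    ∃ v ∈ zpowers (a * b), v * v = 1 ∧ v ≠ 1 ∧ v * a = a * v ∧ v * b = b * v := by
  set x := a * b
  set v := x ^ (orderOf x / 2)
  have hv : orderOf v = 2 := orderOf_pow_orderOf_div (orderOf_pos _).ne' h2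
  have hv2 : v * v = 1 := by rw [← pow_two, ← hv, pow_orderOf_eq_one]
  have hva : v * a = a * v := by
    have hinv : a * x * a⁻¹ = x⁻¹ := by
      simp only [x]
      rw [mul_inv_rev, inv_of_sq hb, inv_of_sq ha, ← mul_assoc, ha, one_mul]
    have h1 : a * v * a⁻¹ = v := by rw [← conj_pow, hinv, inv_pow, inv_of_sq hv2]
    exact (mul_inv_eq_iff_eq_mul.mp h1).symm
  refine ⟨v, pow_mem (mem_zpowers x) _, hv2, fun h => by rw [h, orderOf_one] at hv; omega, hva, ?_⟩
  have h3 : Commute x v := (Commute.refl x).pow_right _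
  calc v * b = (v * a⁻¹) * x := by simp only [x]; group
    _ = (a⁻¹ * v) * x := by rw [((show Commute v a from hva).inv_right).eq]
    _ = a⁻¹ * (x * v) := by rw [mul_assoc, h3.eq]
    _ = b * v := by simp only [x]; group

namespace Cex

variable (C : Cex p G)
include C

theorem sylow_comm (P : Sylow p G) {a b : G} (ha : a ∈ (P : Subgroup G)) (hb : b ∈ (P : Subgroup G)) :
    a * b = b * a :=
  congrArg Subtype.val ((C.ab P).is_comm.comm ⟨a, ha⟩ ⟨b, hb⟩)

/-- A fixed-point-free involution inverts an abelian Sylow subgroup. -/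
theorem inverts_of_fpf (P : Sylow p G) {u : G} (hu : u * u = 1) (huN : u ∈ normalizer ((P : Subgroup G) : Set G))
    (hfix : ∀ y ∈ (P : Subgroup G), y * u = u * y → y = 1) : ∀ y ∈ (P : Subgroup G), u * y * u⁻¹ = y⁻¹ := by
  intro y hy
  have hy' := (mem_normalizer_iff.mp huN y).mp hy
  have hc : (u * y * u⁻¹) * y = y * (u * y * u⁻¹) := C.sylow_comm P hy' hy
  have h1 := hfix _ (mul_mem hy hy') (by
    rw [inv_of_sq hu] at hc ⊢
    calc y * (u * y * u) * u = y * u * y * (u * u) := by group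
      _ = y * u * y := by rw [hu, mul_one]
      _ = u * u * (y * u * y) := by rw [hu, one_mul]
      _ = u * ((u * y * u) * y) := by group
      _ = u * (y * (u * y * u)) := by rw [hc])
  exact eq_inv_of_mul_eq_one_right h1

section Three

variable (h4 : p + 1 = 4)
  (hnc : ∀ (Q : Sylow 2 G) (d : G), IsPGroup p (zpowers d) → d ∈ centralizer ((Q : Subgroup G) : Set G) → d = 1)
include h4 hnc

omit h4 in
theorem centralizer_four {z : G} (hz : IsPGroup p (zpowers z)) (hz1 : z ≠ 1) (h2 : 2 ∣ Nat.card (centralizer ({z} : Set G)))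
    (h4' : p + 1 = 4) : ∀ S : Sylow p (centralizer ({z} : Set G)), (S : Subgroup (centralizer ({z} : Set G))).index = 2 := by
  haveI := Fact.mk C.prime
  haveI := Fact.mk Nat.prime_two
  set M := centralizer ({z} : Set G)
  intro S
  have hT := C.small M (C.centralizer_p_ne_top hz hz1) h2
  have hfour : ¬ 2 ^ 2 ∣ Nat.card M := by
    intro hd
    obtain ⟨U, hU⟩ := Sylow.exists_subgroup_card_pow_prime 2 hd
    obtain ⟨R, hR⟩ := ((IsPGroup.of_card hU).map M.subtype).exists_le_sylow
    have hUR : U.map M.subtype = (R : Subgroup G) := eq_of_le_of_card_ge hR (le_of_eq (by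
      rw [C.card_sylow R, h4', Subgroup.card_map_of_injective M.subtype_injective, hU]; rfl))
    refine hz1 (hnc R z hz ?_)
    rw [mem_centralizer_iff]
    intro w hw
    rw [← hUR, SetLike.mem_coe] at hw
    exact mem_centralizer_singleton_iff.mp (map_subtype_le U hw)
  have hp2 : ¬ p ∣ (S : Subgroup M).index := S.not_dvd_index
  have hidx := (S : Subgroup M).index_dvd_card
  have h2i : 2 ∣ (S : Subgroup M).index := by
    rw [← Subgroup.card_mul_index (S : Subgroup M)] at h2
    refine (Nat.prime_two.dvd_mul.mp h2).resolve_left fun h => ?_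
    obtain ⟨k, hk⟩ := IsPGroup.iff_card.mp S.2
    rw [hk] at h
    exact C.ne_two ((Nat.prime_dvd_prime_iff_eq Nat.prime_two C.prime).mp (Nat.prime_two.dvd_of_dvd_pow h)).symm
  have hpow : (S : Subgroup M).index = 2 ^ (S : Subgroup M).index.primeFactorsList.length := by
    refine Nat.eq_prime_pow_of_unique_prime_dvd index_ne_zero_of_finite fun {d} hd hdd => ?_
    exact (hT d hd (hdd.trans hidx)).resolve_left fun h => hp2 (h ▸ hdd)
  generalize (S : Subgroup M).index.primeFactorsList.length = n at hpow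
  rcases n with _ | _ | n
  · rw [hpow] at h2i; norm_num at h2i
  · simpa using hpow
  · exact absurd ((pow_dvd_pow 2 (by omega)).trans (hpow ▸ hidx)) hfour

theorem sylow_unique {z t : G} (hz : IsPGroup p (zpowers z)) (hz1 : z ≠ 1) (ht : t * t = 1) (ht1 : t ≠ 1)
    (hzt : z * t = t * z) {P P' : Sylow p G} (hP : z ∈ (P : Subgroup G)) (hP' : z ∈ (P' : Subgroup G)) : P = P' := by
  haveI := Fact.mk C.prime
  set M := centralizer ({z} : Set G)
  have h2 : 2 ∣ Nat.card M := by
    rw [← orderOf_two_of ht ht1]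
    exact Subgroup.orderOf_dvd_natCard M (mem_centralizer_singleton_iff.mpr hzt.symm)
  have hle : ∀ R : Sylow p G, z ∈ (R : Subgroup G) → (R : Subgroup G) ≤ M := fun R hR y hy =>
    mem_centralizer_singleton_iff.mpr (C.sylow_comm R hy hR)
  have hn : ((P.subtype (hle P hP) : Sylow p M) : Subgroup M).Normal :=
    normal_of_index_eq_two (C.centralizer_four hnc hz hz1 h2 h4 _)
  haveI := Sylow.unique_of_normal _ hn
  have h := congrArg (fun S : Sylow p M => (S : Subgroup M).map M.subtype)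
    (Subsingleton.elim (P.subtype (hle P hP)) (P'.subtype (hle P' hP')))
  simp only [Sylow.coe_subtype, subgroupOf_map_subtype, inf_eq_left.mpr (hle P hP), inf_eq_left.mpr (hle P' hP')] at h
  exact Sylow.ext h

/-- All `p`-elements centralising an involution lie in one Sylow subgroup. -/
theorem mem_sylow_of_commute {z z' t : G} (hz : IsPGroup p (zpowers z)) (hz1 : z ≠ 1) (hz' : IsPGroup p (zpowers z'))
    (ht : t * t = 1) (ht1 : t ≠ 1) (hzt : z * t = t * z) (hzt' : z' * t = t * z')
    (P : Sylow p G) (hP : z ∈ (P : Subgroup G)) : z' ∈ (P : Subgroup G) := by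
  obtain ⟨Q, hQ⟩ := C.exists_sylow_mem ht
  obtain ⟨E, hEp, -, -, hmem, -, -⟩ := C.centralizer_struct Q hQ ht1
  obtain ⟨P₁, hP₁⟩ := hEp.exists_le_sylow
  have he : ∀ e : G, IsPGroup p (zpowers e) → e * t = t * e → e ∈ E := fun e he hc =>
    hmem e (mem_centralizer_singleton_iff.mpr hc) he
  rw [C.sylow_unique h4 hnc hz hz1 ht ht1 hzt hP (hP₁ (he z hz hzt))]
  exact hP₁ (he z' hz' hzt')

theorem sylow_normalized {z t w : G} (hz : IsPGroup p (zpowers z)) (hz1 : z ≠ 1)
    (ht : t * t = 1) (ht1 : t ≠ 1) (hzt : z * t = t * z) (hwt : w * t = t * w)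
    (P : Sylow p G) (hP : z ∈ (P : Subgroup G)) : w ∈ normalizer ((P : Subgroup G) : Set G) := by
  have hc : (w * z * w⁻¹) * t = t * (w * z * w⁻¹) := by
    have h := conj_commute hzt w
    rwa [hwt, mul_inv_cancel_right] at h
  have hp' := isPGroup_zpowers_conj C.prime hz w
  have h1 := C.mem_sylow_of_commute h4 hnc hz hz1 hp' ht ht1 hzt hc P hP
  have h2 : w * z * w⁻¹ ∈ ((w • P : Sylow p G) : Subgroup G) := by
    rw [mem_sylow_smul, show w⁻¹ * (w * z * w⁻¹) * w = z by group]
    exact hP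
  exact Sylow.smul_eq_iff_mem_normalizer.mp
    (C.sylow_unique h4 hnc hp' (fun h => hz1 (conj_eq_one_iff.mp h)) ht ht1 hc h2 h1)

theorem no_fixed (Q : Sylow 2 G) {z t u : G} (hz : IsPGroup p (zpowers z)) (hz1 : z ≠ 1) (htQ : t ∈ (Q : Subgroup G))
    (ht1 : t ≠ 1) (hzt : z * t = t * z) (huQ : u ∈ (Q : Subgroup G)) (hu1 : u ≠ 1) (hut : u ≠ t)
    (P : Sylow p G) (hP : z ∈ (P : Subgroup G)) : ∀ y ∈ (P : Subgroup G), y * u = u * y → y = 1 := by
  intro y hy hyu
  by_contra hy1
  have hsq := (C.sylow_facts Q).1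
  have hyp : IsPGroup p (zpowers y) := P.2.to_le (zpowers_le.mpr hy)
  obtain ⟨g, hg⟩ := (C.sylow_facts Q).2
  obtain ⟨i, hi⟩ := hg.2.2 t htQ ht1 u huQ hu1
  set g' := g ^ i
  have hc : (g' * z * g'⁻¹) * u = u * (g' * z * g'⁻¹) := by rw [← hi]; exact conj_commute hzt g'
  have hp' := isPGroup_zpowers_conj C.prime hz g'
  have hmem := C.mem_sylow_of_commute h4 hnc hyp hy1 hp' (hsq u huQ) hu1 hyu hc P hy
  have h2 : g' * z * g'⁻¹ ∈ ((g' • P : Sylow p G) : Subgroup G) := by
    rw [mem_sylow_smul, show g'⁻¹ * (g' * z * g'⁻¹) * g' = z by group]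
    exact hP
  have hN : g' ∈ normalizer ((P : Subgroup G) : Set G) := Sylow.smul_eq_iff_mem_normalizer.mp
    (C.sylow_unique h4 hnc hp' (fun h => hz1 (conj_eq_one_iff.mp h)) (hsq u huQ) hu1 hc h2 hmem)
  have hM : Mover p (Q : Subgroup G) g' := C.mover_of_moves Q (pow_mem hg.1 i)
    (hg.2.1.to_le (zpowers_le.mpr (pow_mem (mem_zpowers g) i))) htQ (by rw [hi]; exact hut)
  have hPne : (P : Subgroup G) ≠ ⊥ := fun h => hz1 (mem_bot.mp (h ▸ hP))
  have hle := C.key Q (C.normalizer_p_ne_top P.2 hPne)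
    (fun w hw => C.sylow_normalized h4 hnc hz hz1 (hsq t htQ) ht1 hzt (C.comm Q hw htQ) P hP) hM hN
  exact hz1 (hnc Q z hz (C.fix_of_fix Q (hle (le_normalizer hP)) hz htQ ht1 hzt))

theorem centralizes {z t : G} (hz : IsPGroup p (zpowers z)) (hz1 : z ≠ 1) (ht : t * t = 1) (ht1 : t ≠ 1)
    (hzt : z * t = t * z) (P : Sylow p G) (hP : z ∈ (P : Subgroup G)) : ∀ y ∈ (P : Subgroup G), y * t = t * y := by
  obtain ⟨Q, htQ⟩ := C.exists_sylow_mem ht
  obtain ⟨u, huQ, hu1, hut⟩ := C.exists_other Q t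
  have hu := (C.sylow_facts Q).1 u huQ
  have htuQ : t * u ∈ (Q : Subgroup G) := mul_mem htQ huQ
  have hN : ∀ w ∈ (Q : Subgroup G), w ∈ normalizer ((P : Subgroup G) : Set G) := fun w hw =>
    C.sylow_normalized h4 hnc hz hz1 ht ht1 hzt (C.comm Q hw htQ) P hP
  have hi1 := C.inverts_of_fpf P hu (hN u huQ) (C.no_fixed h4 hnc Q hz hz1 htQ ht1 hzt huQ hu1 hut P hP)
  have hi2 := C.inverts_of_fpf P ((C.sylow_facts Q).1 _ htuQ) (hN _ htuQ)
    (C.no_fixed h4 hnc Q hz hz1 htQ ht1 hzt htuQ
      (fun h => hut ((eq_inv_of_mul_eq_one_right h).trans (inv_of_sq ht))) (fun h => hu1 (mul_eq_left.mp h)) P hP)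
  intro y hy
  have h1 : t * y * t⁻¹ = y := by
    calc t * y * t⁻¹ = (t * u) * (u⁻¹ * y * u⁻¹⁻¹) * (t * u)⁻¹ := by group
      _ = y := by rw [inv_of_sq hu, hi1 y hy, hi2 _ (inv_mem hy), inv_inv]
  exact (mul_inv_eq_iff_eq_mul.mp h1).symm

theorem unique_inv {z x w : G} (hz : IsPGroup p (zpowers z)) (hz1 : z ≠ 1) (hx : x * x = 1) (hx1 : x ≠ 1)
    (hzx : z * x = x * z) (hw : w * w = 1) (hw1 : w ≠ 1) (hzw : z * w = w * z) : x = w := by
  haveI := Fact.mk C.prime
  obtain ⟨P, hP'⟩ := hz.exists_le_sylow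
  have hP := hP' (mem_zpowers z)
  set M := centralizer ({z} : Set G)
  have hxM : x ∈ M := mem_centralizer_singleton_iff.mpr hzx.symm
  have hwM : w ∈ M := mem_centralizer_singleton_iff.mpr hzw.symm
  have hle : (P : Subgroup G) ≤ M := fun y hy => mem_centralizer_singleton_iff.mpr (C.sylow_comm P hy hP)
  have h2 : 2 ∣ Nat.card M := by rw [← orderOf_two_of hx hx1]; exact Subgroup.orderOf_dvd_natCard M hxM
  have hidx := C.centralizer_four hnc hz hz1 h2 h4 (P.subtype hle)
  rw [Sylow.coe_subtype] at hidx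
  have hnotP : ∀ v : G, v * v = 1 → v ≠ 1 → v ∉ (P : Subgroup G) := fun v hv hv1 hvP =>
    hv1 (two_pow_eq_one C.prime C.ne_two (P.2.to_le (zpowers_le.mpr hvP)) hv)
  have hprod : x * w ∈ (P : Subgroup G) :=
    (Subgroup.mul_mem_iff_of_index_two hidx (a := ⟨x, hxM⟩) (b := ⟨w, hwM⟩)).mpr
      ⟨fun h => absurd h (hnotP x hx hx1), fun h => absurd h (hnotP w hw hw1)⟩
  have hc := C.centralizes h4 hnc hz hz1 hx hx1 hzx P hP (x * w) hprod
  have hxw : x * w = w * x := by
    rw [← mul_assoc x x w, hx, one_mul] at hc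
    calc x * w = x * (x * w * x) := by rw [hc]
      _ = x * x * (w * x) := by group
      _ = w * x := by rw [hx, one_mul]
  have hsq : x * w * (x * w) = 1 := by
    calc x * w * (x * w) = x * w * (w * x) := by rw [← hxw]
      _ = x * (w * w) * x := by group
      _ = 1 := by rw [hw, mul_one, hx]
  exact (eq_inv_of_mul_eq_one_left (two_pow_eq_one C.prime C.ne_two (P.2.to_le (zpowers_le.mpr hprod)) hsq)).trans
    (inv_of_sq hw)

omit hnc in
theorem klein {x y a : G} (hx : x * x = 1) (hx1 : x ≠ 1) (hy : y * y = 1) (hy1 : y ≠ 1) (hxy1 : x ≠ y)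
    (hxy : x * y = y * x) (ha : a * a = 1) (hax : a * x = x * a) (hay : a * y = y * a) :
    a = 1 ∨ a = x ∨ a = y ∨ a = x * y := by
  classical
  haveI := Fintype.ofFinite G
  have hn : zpowers x ≤ normalizer (zpowers y : Set G) := zpowers_le.mpr (mem_normalizer_zpowers
    (by rw [hxy, mul_inv_cancel_right]; exact mem_zpowers y))
  haveI := Fact.mk Nat.prime_two
  obtain ⟨R, hR⟩ := ((isPGroup_zpowers_inv hx).to_sup_of_normal_right' (isPGroup_zpowers_inv hy) hn).exists_le_sylow
  have hxR : x ∈ (R : Subgroup G) := hR (mem_sup_left (mem_zpowers x))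
  have hyR : y ∈ (R : Subgroup G) := hR (mem_sup_right (mem_zpowers y))
  have hxy1' : x * y ≠ 1 := fun h => hxy1 ((eq_inv_of_mul_eq_one_left h).trans (inv_of_sq hy))
  have hxyx : x * y ≠ x := fun h => hy1 (mul_eq_left.mp h)
  have hxyy : x * y ≠ y := fun h => hx1 (mul_eq_right.mp h)
  have hset : ({1, x, y, x * y} : Finset G) = ((R : Subgroup G) : Set G).toFinset := by
    refine Finset.eq_of_subset_of_card_le ?_ (le_of_eq ?_)
    · intro v hv
      rw [Set.mem_toFinset]
      simp only [Finset.mem_insert, Finset.mem_singleton] at hv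
      rcases hv with rfl | rfl | rfl | rfl
      exacts [one_mem _, hxR, hyR, mul_mem hxR hyR]
    · rw [Set.toFinset_card, ← Nat.card_eq_fintype_card, show Nat.card ((R : Subgroup G) : Set G) = 4 from
        (C.card_sylow R).trans h4, Finset.card_insert_of_notMem, Finset.card_insert_of_notMem,
        Finset.card_insert_of_notMem, Finset.card_singleton] <;>
        simp [Ne.symm, hx1, hy1, hxy1, hxy1', hxyx, hxyy]
  have haR : a ∈ (R : Subgroup G) := by
    refine C.mem_of_normalizer R (centralizer_le_normalizer _ ?_) (isPGroup_zpowers_inv ha)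
    rw [mem_centralizer_iff]
    intro v hv
    have hv' : v ∈ ({1, x, y, x * y} : Finset G) := by rw [hset, Set.mem_toFinset]; exact hv
    simp only [Finset.mem_insert, Finset.mem_singleton] at hv'
    rcases hv' with rfl | rfl | rfl | rfl
    · rw [one_mul, mul_one]
    · exact hax.symm
    · exact hay.symm
    · exact ((show Commute a x from hax).mul_right hay).eq.symm
  have h : a ∈ ({1, x, y, x * y} : Finset G) := by rw [hset, Set.mem_toFinset]; exact haR
  simpa only [Finset.mem_insert, Finset.mem_singleton] using h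

theorem friend_false (hne : ∀ t : G, t * t = 1 → t ≠ 1 → ∃ z, IsPGroup p (zpowers z) ∧ z ≠ 1 ∧ z * t = t * z) :
    False := by
  classical
  haveI := Fintype.ofFinite G
  haveI := Fact.mk C.prime
  haveI := Fact.mk Nat.prime_two
  obtain ⟨Q⟩ : Nonempty (Sylow 2 G) := inferInstance
  obtain ⟨t₀, ht₀Q, ht₀1, -⟩ := C.exists_other Q 1
  have ht₀ := (C.sylow_facts Q).1 t₀ ht₀Q
  obtain ⟨z₀, hz₀, hz₀1, hzt₀⟩ := hne t₀ ht₀ ht₀1
  obtain ⟨P₀, hP₀⟩ := hz₀.exists_le_sylow
  have hcentral : ∀ x : G, IsPGroup p (zpowers x) → ∃ t, t * t = 1 ∧ t ≠ 1 ∧ x * t = t * x := by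
    intro x hx
    obtain ⟨P, hP⟩ := hx.exists_le_sylow
    obtain ⟨c, hc⟩ := MulAction.exists_smul_eq G P₀ P
    refine ⟨c * t₀ * c⁻¹, ?_, fun h => ht₀1 (conj_eq_one_iff.mp h), ?_⟩
    · calc c * t₀ * c⁻¹ * (c * t₀ * c⁻¹) = c * (t₀ * t₀) * c⁻¹ := by group
        _ = 1 := by rw [ht₀]; group
    · have h := hP (mem_zpowers x)
      rw [← hc, mem_sylow_smul] at h
      have h' := conj_commute (C.centralizes h4 hnc hz₀ hz₀1 ht₀ ht₀1 hzt₀ P₀ (hP₀ (mem_zpowers _)) _ h) c
      rwa [show c * (c⁻¹ * x * c) * c⁻¹ = x by group] at h'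
  let R : {s : G // s * s = 1 ∧ s ≠ 1} → {s : G // s * s = 1 ∧ s ≠ 1} → Prop := fun a b => a ≠ b ∧ (a : G) * b = b * a
  haveI : Nonempty {s : G // s * s = 1 ∧ s ≠ 1} := ⟨⟨t₀, ht₀, ht₀1⟩⟩
  set k := (Finset.univ.filter (R ⟨t₀, ht₀, ht₀1⟩)).card with hk
  refine CfsgLib.CycSyl.no_regular_friendship R (fun a b h => ⟨h.1.symm, h.2.symm⟩) (fun a h => h.1 rfl) k ?_ ?_ ?_
  · obtain ⟨u, huQ, hu1, hut⟩ := C.exists_other Q t₀
    have hu := (C.sylow_facts Q).1 u huQ
    have hinv := C.inverts_of_fpf P₀ hu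
      (C.sylow_normalized h4 hnc hz₀ hz₀1 ht₀ ht₀1 hzt₀ (C.comm Q huQ ht₀Q) P₀ (hP₀ (mem_zpowers _)))
      (C.no_fixed h4 hnc Q hz₀ hz₀1 ht₀Q ht₀1 hzt₀ huQ hu1 hut P₀ (hP₀ (mem_zpowers _))) z₀ (hP₀ (mem_zpowers _))
    have hzQ : z₀ ∉ (Q : Subgroup G) := fun h =>
      hz₀1 (eq_one_of_two_groups C.prime Nat.prime_two C.ne_two hz₀ Q.2 (mem_zpowers _) h)
    have hzu : z₀ * u * (z₀ * u) = 1 := by
      rw [inv_of_sq hu] at hinv
      calc z₀ * u * (z₀ * u) = z₀ * (u * z₀ * u) := by group
        _ = 1 := by rw [hinv, mul_inv_cancel]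
    have hzu1 : z₀ * u ≠ 1 := fun h => hzQ (by rw [eq_inv_of_mul_eq_one_left h]; exact inv_mem huQ)
    have htu1 : t₀ * u ≠ 1 := fun h => hut ((eq_inv_of_mul_eq_one_right h).trans (inv_of_sq ht₀))
    let a₁ : {s : G // s * s = 1 ∧ s ≠ 1} := ⟨u, hu, hu1⟩
    let a₂ : {s : G // s * s = 1 ∧ s ≠ 1} := ⟨t₀ * u, (C.sylow_facts Q).1 _ (mul_mem ht₀Q huQ), htu1⟩
    let a₃ : {s : G // s * s = 1 ∧ s ≠ 1} := ⟨z₀ * u, hzu, hzu1⟩
    have h12 : a₁ ≠ a₂ := fun h => ht₀1 (mul_eq_right.mp (congrArg Subtype.val h).symm)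
    have h13 : a₁ ≠ a₃ := fun h => hz₀1 (mul_eq_right.mp (congrArg Subtype.val h).symm)
    have h23 : a₂ ≠ a₃ := fun h => hzQ (mul_right_cancel (congrArg Subtype.val h) ▸ ht₀Q)
    have hsub : ({a₁, a₂, a₃} : Finset {s : G // s * s = 1 ∧ s ≠ 1}) ⊆ Finset.univ.filter (R ⟨t₀, ht₀, ht₀1⟩) := by
      intro a ha
      simp only [Finset.mem_insert, Finset.mem_singleton] at ha
      refine Finset.mem_filter.mpr ⟨Finset.mem_univ _, ?_⟩
      rcases ha with rfl | rfl | rfl
      · exact ⟨fun h => hut (congrArg Subtype.val h).symm, C.comm Q ht₀Q huQ⟩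
      · exact ⟨fun h => hu1 (mul_eq_left.mp (congrArg Subtype.val h).symm), C.comm Q ht₀Q (mul_mem ht₀Q huQ)⟩
      · refine ⟨fun h => hzQ ?_, ((show Commute t₀ z₀ from hzt₀.symm).mul_right (C.comm Q ht₀Q huQ)).eq⟩
        have e : t₀ = z₀ * u := congrArg Subtype.val h
        rw [show z₀ = t₀ * u⁻¹ by rw [e, mul_inv_cancel_right]]
        exact mul_mem ht₀Q (inv_mem huQ)
    refine le_trans (le_of_eq ?_) (hk ▸ Finset.card_le_card hsub)
    rw [Finset.card_insert_of_notMem (by simp [h12, h13]), Finset.card_insert_of_notMem (by simp [h23]),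
      Finset.card_singleton]
  · intro a
    obtain ⟨c, hc⟩ := C.involutions_conj a.2.1 a.2.2 ht₀ ht₀1
    have hconj : ∀ s : G, (s * s = 1 ∧ s ≠ 1) ↔
        (MulAut.conj c s * MulAut.conj c s = 1 ∧ MulAut.conj c s ≠ 1) := fun s => by
      rw [← map_mul, map_eq_one_iff _ (MulAut.conj c).injective, map_ne_one_iff _ (MulAut.conj c).injective]
    let e : {s : G // s * s = 1 ∧ s ≠ 1} ≃ {s : G // s * s = 1 ∧ s ≠ 1} := (MulAut.conj c).toEquiv.subtypeEquiv hconj
    symm
    rw [hk]
    refine Finset.card_equiv e fun b => ?_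
    have hea : e ⟨t₀, ht₀, ht₀1⟩ = a := Subtype.ext hc
    simp only [Finset.mem_filter, Finset.mem_univ, true_and, R, ← hea, ne_eq, e.injective.eq_iff]
    refine and_congr_right fun _ => ?_
    show _ ↔ MulAut.conj c t₀ * MulAut.conj c b = MulAut.conj c b * MulAut.conj c t₀
    rw [← map_mul, ← map_mul, (MulAut.conj c).injective.eq_iff]
  · rintro ⟨a, ha, ha1⟩ ⟨b, hb, hb1⟩ hab
    have hab' : a ≠ b := fun h => hab (Subtype.ext h)
    rw [Finset.card_eq_one]
    by_cases hc : a * b = b * a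
    · have hab1 : a * b ≠ 1 := fun h => hab' ((eq_inv_of_mul_eq_one_left h).trans (inv_of_sq hb))
      have hsq : a * b * (a * b) = 1 := by
        calc a * b * (a * b) = a * b * (b * a) := by rw [← hc]
          _ = a * (b * b) * a := by group
          _ = 1 := by rw [hb, mul_one, ha]
      refine ⟨⟨a * b, hsq, hab1⟩, ?_⟩
      ext ⟨v, hv, hv1⟩
      simp only [Finset.mem_filter, Finset.mem_univ, true_and, Finset.mem_singleton, Subtype.mk.injEq, R, ne_eq]
      constructor
      · rintro ⟨⟨hav, hcav⟩, hvb, hcvb⟩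
        rcases C.klein h4 ha ha1 hb hb1 hab' hc hv hcav.symm hcvb with h | h | h | h
        exacts [absurd h hv1, absurd h.symm hav, absurd h hvb, h]
      · rintro rfl
        refine ⟨⟨fun h => hb1 (mul_eq_left.mp h.symm), ?_⟩, fun h => ha1 (mul_eq_right.mp h), ?_⟩
        · rw [mul_assoc, ← hc]
        · rw [hc, mul_assoc, hc]
    · obtain ⟨v, hv, hv1, hva, hvb⟩ : ∃ v : G, v * v = 1 ∧ v ≠ 1 ∧ v * a = a * v ∧ v * b = b * v := by
        rcases C.mul_involutions ha hb ha1 with h2 | hxp
        · obtain ⟨v, -, h⟩ := exists_central_involution ha hb h2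
          exact ⟨v, h⟩
        · set x := a * b with hx
          have hx1 : x ≠ 1 := fun h => hab' ((eq_inv_of_mul_eq_one_left h).trans (inv_of_sq hb))
          obtain ⟨t, ht, ht1, hxt⟩ := hcentral x hxp
          have hinv : a * x * a⁻¹ = x⁻¹ := by
            rw [hx, mul_inv_rev, inv_of_sq hb, inv_of_sq ha, ← mul_assoc, ha, one_mul]
          have hta : a * t * a⁻¹ = t := by
            refine (C.unique_inv h4 hnc hxp hx1 ?_ (fun h => ht1 (conj_eq_one_iff.mp h)) ?_ ht ht1 hxt)
            · calc a * t * a⁻¹ * (a * t * a⁻¹) = a * (t * t) * a⁻¹ := by group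
                _ = 1 := by rw [ht]; group
            · have h := conj_commute hxt a
              rw [hinv] at h
              exact (Commute.inv_left_iff.mp (show Commute x⁻¹ (a * t * a⁻¹) from h)).eq
          have hta' : t * a = a * t := (mul_inv_eq_iff_eq_mul.mp hta).symm
          refine ⟨t, ht, ht1, hta', ?_⟩
          have hb' : b = a * x := by rw [hx, ← mul_assoc, ha, one_mul]
          rw [hb']
          exact ((show Commute t a from hta').mul_right hxt.symm).eq
      refine ⟨⟨v, hv, hv1⟩, ?_⟩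
      ext ⟨w, hw, hw1⟩
      simp only [Finset.mem_filter, Finset.mem_univ, true_and, Finset.mem_singleton, Subtype.mk.injEq, R, ne_eq]
      constructor
      · rintro ⟨⟨haw, hcaw⟩, hwb, hcwb⟩
        by_contra hvw
        have hmem : ∀ {c d : G}, c * c = 1 → c ≠ 1 → d * d = 1 → d ≠ 1 → c ≠ d → c * d = d * c →
            a * c = c * a → b * c = c * b → a * d = d * a → b * d = d * b → False := by
          intro c d hc2 hc1 hd2 hd1 hcd hcd' hac hbc had hbd
          have hin : ∀ e : G, e * e = 1 → e * c = c * e → e * d = d * e → e * a = a * e → e * b = b * e := by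
            intro e he hec hed hea
            rcases C.klein h4 hc2 hc1 hd2 hd1 hcd hcd' he hec hed with h | h | h | h
            · rw [h, one_mul, mul_one]
            · rw [h]; exact hbc.symm
            · rw [h]; exact hbd.symm
            · rw [h]; exact ((show Commute b c from hbc).mul_right hbd).eq.symm
          exact hc (hin a ha hac had rfl)
        by_cases hvwc : v * w = w * v
        · exact hmem hv hv1 hw hw1 (Ne.symm hvw) hvwc hva.symm hvb.symm hcaw hcwb.symm
        · rcases C.mul_involutions hv hw hv1 with h2 | hxp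
          · obtain ⟨r, hr, hr2, hr1, hrv, -⟩ := exists_central_involution hv hw h2
            obtain ⟨i, rfl⟩ := hr
            have hax : Commute a (v * w) := (show Commute a v from hva.symm).mul_right hcaw
            have hbx : Commute b (v * w) := (show Commute b v from hvb.symm).mul_right hcwb.symm
            by_cases hrv' : (v * w) ^ i = v
            · exact hvwc (by
                have h := (Commute.refl (v * w)).zpow_left i
                rw [hrv'] at h
                have h' : v * (v * w) = v * w * v := h.eq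
                rw [← mul_assoc, hv, one_mul] at h'
                calc v * w = v * (v * w * v) := by rw [← h']
                  _ = (v * v) * (w * v) := by group
                  _ = w * v := by rw [hv, one_mul])
            · exact hmem hr2 hr1 hv hv1 hrv' hrv ((hax.zpow_right i).eq) ((hbx.zpow_right i).eq) hva.symm hvb.symm
          · have hx1 : v * w ≠ 1 := fun h => hvw ((eq_inv_of_mul_eq_one_right h).trans (inv_of_sq hv))
            refine hab' (C.unique_inv h4 hnc hxp hx1 ha ha1 ?_ hb hb1 ?_)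
            · exact ((show Commute a v from hva.symm).mul_right hcaw).eq.symm
            · exact ((show Commute b v from hvb.symm).mul_right hcwb.symm).eq.symm
      · rintro rfl
        exact ⟨⟨fun h => hc (h ▸ hvb), hva.symm⟩, fun h => hc (h ▸ hva).symm, hvb⟩

end Three

/-- There is no counterexample in the Mersenne case. -/
theorem false_all : False := by
  classical
  haveI := Fact.mk C.prime
  haveI := Fact.mk Nat.prime_two
  by_cases h : 8 ≤ p + 1 ∨ ∃ (Q : Sylow 2 G) (d : G), d ≠ 1 ∧ IsPGroup p (zpowers d) ∧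
      d ∈ centralizer ((Q : Subgroup G) : Set G)
  · refine C.count_false fun Q' t ht ht1 => C.central Q' ?_ ht ht1
    rcases h with h | ⟨Q, d, hd1, hdp, hdC⟩
    · exact Or.inl h
    · obtain ⟨c, hc⟩ := MulAction.exists_smul_eq G Q Q'
      refine Or.inr ⟨c * d * c⁻¹, fun h => hd1 (conj_eq_one_iff.mp h), isPGroup_zpowers_conj C.prime hdp c, ?_⟩
      rw [mem_centralizer_iff]
      intro w hw
      rw [← hc, SetLike.mem_coe, mem_sylow_smul] at hw
      have h' := conj_commute (mem_centralizer_iff.mp hdC _ hw).symm c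
      rw [show c * (c⁻¹ * w * c) * c⁻¹ = w by group] at h'
      exact h'.symm
  · push Not at h
    have h4 : p + 1 = 4 := by
      have h8 := h.1
      rw [C.size] at h8 ⊢
      have h2 : (Nat.card G).factorization 2 < 3 := by
        by_contra hh
        push Not at hh
        exact absurd (Nat.pow_le_pow_right two_pos hh : 2 ^ 3 ≤ _) (by omega)
      have h3 := C.prime.two_le
      have h5 := C.ne_two
      have h6 := C.size
      interval_cases (Nat.card G).factorization 2 <;> omega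
    have hnc : ∀ (Q : Sylow 2 G) (d : G), IsPGroup p (zpowers d) →
        d ∈ centralizer ((Q : Subgroup G) : Set G) → d = 1 := fun Q d hd hdC =>
      by_contra fun hd1 => h.2 Q d hd1 hd hdC
    by_cases hne : ∀ t : G, t * t = 1 → t ≠ 1 → ∃ z, IsPGroup p (zpowers z) ∧ z ≠ 1 ∧ z * t = t * z
    · exact C.friend_false h4 hnc hne
    · push Not at hne
      obtain ⟨s, hs, hs1, hsz⟩ := hne
      refine C.count_false fun Q t htQ ht1 g hg => ?_
      obtain ⟨E, hEp, hEC, -, -, -, hprod⟩ := C.centralizer_struct Q htQ ht1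
      obtain ⟨e, he, w, hw, rfl⟩ := hprod g hg
      have he1 : e = 1 := by
        by_contra he1
        obtain ⟨y, hy, hys, hy1⟩ := C.exists_conj_involution hs hs1 ((C.sylow_facts Q).1 t htQ) ht1
          (hEp.to_le (zpowers_le.mpr he)) (mem_centralizer_singleton_iff.mp (hEC he))
        exact hsz y hy (hy1 he1) hys
      rw [he1, one_mul]
      exact mem_centralizer_iff.mpr fun v hv => C.comm Q hv hw

end Cex

end CfsgLib.MixedDivisor
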