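import Mathlib
import Cfsg.Agent.Lib.MixedDivisor.Friend

/-! Only two primes divide the order. -/

set_option autoImplicit false

namespace CfsgLib.MixedDivisor

open Cfsg Subgroup

universe u

theorem two_of_mix {p q : ℕ} (hp : p.Prime) (hq : q.Prime) (hpq : p ≠ q) (hp2 : p ≠ 2) :
    ∀ (n : ℕ) (G : Type u) [Group G] [Finite G], Nat.card G = n → p ∣ Nat.card G → q ∣ Nat.card G →
      Mix p q G → Large p q G → Two p q G := by
  intro n
  induction n using Nat.strong_induction_on with
  | _ n ih =>
    intro G _ _ hn hpG hqG hmix hlarge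
    by_contra hbad
    haveI := Fact.mk hp
    haveI := Fact.mk hq
    obtain ⟨A, hA, g, hg, hgp, u, hu, hne⟩ : ∃ A : Subgroup G, IsPGroup q A ∧ ∃ g ∈ normalizer (A : Set G),
        IsPGroup p (zpowers g) ∧ ∃ u ∈ A, g * u * g⁻¹ ≠ u := by
      by_contra h
      push Not at h
      exact hbad (two_of_centralizing hp hq hpq hmix hpG hqG h)
    obtain ⟨Q₁, hQ₁⟩ := hA.exists_le_sylow
    have hle : p + 1 ≤ q ^ (Nat.card G).factorization q :=
      ((orbit_bound hp hgp hg hu hne).1.trans (card_le_of_le hQ₁)).trans (le_of_eq Q₁.card_eq_multiplicity)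
    obtain ⟨heq, hab⟩ : p = q ^ (Nat.card G).factorization q - 1 ∧ ∀ P : Sylow p G, IsMulCommutative P :=
      hlarge.resolve_left (by omega)
    have hsize : p + 1 = q ^ (Nat.card G).factorization q := by omega
    have hq2 : q = 2 := by
      have h : 2 ∣ q ^ (Nat.card G).factorization q := by
        rw [← hsize]
        obtain ⟨m, hm⟩ := hp.odd_of_ne_two hp2
        exact ⟨m + 1, by omega⟩
      exact ((Nat.prime_dvd_prime_iff_eq Nat.prime_two hq).mp (Nat.prime_two.dvd_of_dvd_pow h)).symm
    subst hq2
    have hsmall : ∀ H : Subgroup G, H ≠ ⊤ → 2 ∣ Nat.card H → Two p 2 ↥H := by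
      intro H hH h2
      by_cases hH2 : IsPGroup 2 H
      · intro r hr hd
        obtain ⟨k, hk⟩ := IsPGroup.iff_card.mp hH2
        rw [hk] at hd
        exact Or.inr ((Nat.prime_dvd_prime_iff_eq hr Nat.prime_two).mp (hr.dvd_of_dvd_pow hd))
      · refine ih (Nat.card H) ?_ H rfl (hmix H hH hH2 h2) h2 ?_ ?_
        · exact hn ▸ lt_of_le_of_ne (card_le_card_group H) fun h => hH (eq_top_of_card_eq H h)
        · intro K hK hK2 h2K
          have hc : Nat.card (K.map H.subtype) = Nat.card K := card_map_of_injective H.subtype_injective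
          rw [← hc]
          refine hmix _ (fun h => hH (top_le_iff.mp (h ▸ map_subtype_le K))) (fun h => hK2 ?_) (hc ▸ h2K)
          exact h.of_equiv (K.equivMapOfInjective H.subtype H.subtype_injective).symm
        · rcases lt_or_eq_of_le ((Nat.factorization_le_iff_dvd Nat.card_pos.ne' Nat.card_pos.ne').mpr
            (card_subgroup_dvd_card H) 2) with hlt | he
          · refine Or.inl ?_
            have := Nat.pow_lt_pow_right (one_lt_two) hlt
            have := Nat.one_le_two_pow (n := (Nat.card H).factorization 2)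
            omega
          · refine Or.inr ⟨by rw [he]; exact heq, fun P => ?_⟩
            obtain ⟨P', hP'⟩ := (P.2.map H.subtype).exists_le_sylow
            exact ⟨⟨fun a b => Subtype.ext (Subtype.ext (congrArg Subtype.val ((hab P').is_comm.comm
              ⟨_, hP' (mem_map_of_mem H.subtype a.2)⟩ ⟨_, hP' (mem_map_of_mem H.subtype b.2)⟩) :))⟩⟩
    have hnoP : ∀ K : Subgroup G, K.Normal → IsPGroup p K → K = ⊥ := by
      intro K hK hKp
      by_contra hK1
      obtain ⟨k, hk⟩ := IsPGroup.iff_card.mp hKp
      have hcard : Nat.card (G ⧸ K) * p ^ k = Nat.card G := by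
        rw [← hk]; exact (card_eq_card_quotient_mul_card_subgroup K).symm
      have hk0 : k ≠ 0 := fun h => hK1 (card_eq_one.mp (by rw [hk, h, pow_zero]))
      have h2q : 2 ∣ Nat.card (G ⧸ K) := by
        rw [← hcard] at hqG
        exact (Nat.prime_two.dvd_mul.mp hqG).resolve_right fun h =>
          hp2 ((Nat.prime_dvd_prime_iff_eq Nat.prime_two hp).mp (Nat.prime_two.dvd_of_dvd_pow h)).symm
      have hpq' : p ∣ Nat.card (G ⧸ K) := by
        by_contra hpK
        have hgK : g ∈ K := by
          rw [← QuotientGroup.eq_one_iff, ← orderOf_eq_one_iff]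
          obtain ⟨j, hj⟩ := IsPGroup.iff_card.mp hgp
          rw [Nat.card_zpowers] at hj
          exact Nat.eq_one_of_dvd_coprimes (((hp.coprime_iff_not_dvd).mpr hpK).pow_left j)
            (hj ▸ orderOf_map_dvd (QuotientGroup.mk' K) g) (orderOf_dvd_natCard _)
        refine hne ?_
        have h1 : g * u * g⁻¹ * u⁻¹ ∈ K := by
          rw [mul_assoc g u, mul_assoc g]
          exact K.mul_mem hgK (by rw [mul_assoc]; exact (mul_assoc u g⁻¹ u⁻¹) ▸ hK.conj_mem _ (inv_mem hgK) u)
        have h2 : g * u * g⁻¹ * u⁻¹ ∈ A := mul_mem ((mem_normalizer_iff.mp hg u).mp hu) (inv_mem hu)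
        exact mul_inv_eq_one.mp (eq_one_of_two_groups hp Nat.prime_two hp2 hKp hA h1 h2)
      have hlt : Nat.card (G ⧸ K) < n := by
        rw [← hn, ← hcard]
        exact lt_mul_of_one_lt_right Nat.card_pos (Nat.one_lt_pow hk0 hp.one_lt)
      refine hbad fun r hr hd => ?_
      rw [← hcard] at hd
      rcases hr.dvd_mul.mp hd with hd | hd
      · refine ih _ hlt (G ⧸ K) rfl hpq' h2q ?_ ?_ r hr hd
        · intro H hH hH2 h2H
          set L := H.comap (QuotientGroup.mk' K)
          have hLc : Nat.card L = Nat.card H * p ^ k := by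
            have h := (Subgroup.card_mul_index (K.subgroupOf L))
            have hle : K ≤ L := fun x hx => by
              rw [mem_comap, QuotientGroup.mk'_apply, (QuotientGroup.eq_one_iff x).mpr hx]
              exact one_mem H
            rw [Nat.card_congr (subgroupOfEquivOfLe hle).toEquiv, hk] at h
            have hi : L.index = H.index := H.index_comap_of_surjective (QuotientGroup.mk'_surjective K)
            have h3 := Subgroup.card_mul_index L
            have h4 := Subgroup.card_mul_index H
            rw [hi, ← hcard, ← h4] at h3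
            exact Nat.eq_of_mul_eq_mul_right (Nat.pos_of_ne_zero index_ne_zero_of_finite) (h3.trans (by ring))
          have hL : L ≠ ⊤ := fun h => hH (comap_injective (QuotientGroup.mk'_surjective K) (h.trans (comap_top _).symm))
          have hT := hsmall L hL (hLc ▸ Dvd.dvd.mul_right h2H _)
          by_contra hpH
          refine hH2 (IsPGroup.of_card (n := (Nat.card H).primeFactorsList.length)
            (Nat.eq_prime_pow_of_unique_prime_dvd Nat.card_pos.ne' fun {d} hd hdd => ?_))
          exact (hT d hd (hLc ▸ Dvd.dvd.mul_right hdd _)).resolve_left fun e => hpH (e ▸ hdd)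
        · refine Or.inr ⟨?_, fun P => ?_⟩
          · have h : (Nat.card G).factorization 2 = (Nat.card (G ⧸ K)).factorization 2 := by
              rw [← hcard, Nat.factorization_mul Nat.card_pos.ne' (pow_ne_zero _ hp.ne_zero), Finsupp.add_apply,
                hp.factorization_pow, Finsupp.single_eq_of_ne hp2.symm, add_zero]
            rw [← h]; exact heq
          · obtain ⟨P', rfl⟩ := Sylow.mapSurjective_surjective (QuotientGroup.mk'_surjective K) p P
            refine ⟨⟨fun a b => Subtype.ext ?_⟩⟩
            obtain ⟨a, ha⟩ := a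
            obtain ⟨b, hb⟩ := b
            simp only [Sylow.coe_mapSurjective, mem_map] at ha hb
            obtain ⟨x, hx, rfl⟩ := ha
            obtain ⟨y, hy, rfl⟩ := hb
            show QuotientGroup.mk' K x * QuotientGroup.mk' K y = QuotientGroup.mk' K y * QuotientGroup.mk' K x
            rw [← map_mul, ← map_mul]
            exact congrArg _ (congrArg Subtype.val ((hab P').is_comm.comm ⟨x, hx⟩ ⟨y, hy⟩))
      · exact Or.inl ((Nat.prime_dvd_prime_iff_eq hr hp).mp (hr.dvd_of_dvd_pow hd))
    exact Cex.false_all ⟨hp, hp2, hmix, hpG, hqG, hsize, hab, hbad, hsmall, hnoP⟩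

end CfsgLib.MixedDivisor
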